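import Mathlib
import Cfsg.Agent.SplitTwo.HexDefs
import Cfsg.Agent.Hexagon.G2End
import Cfsg.Agent.H638.G2Iso
import Cfsg.Agent.S1027
import Cfsg.Agent.S1059
import Cfsg.Agent.H775.PU.Bound_m3
import Cfsg.Agent.S1049
import Cfsg.Agent.S1080
import Cfsg.Agent.S1099
import Cfsg.Agent.FastGrp
import Cfsg.Agent.Prune
set_option linter.all false

section
prune_inst 0x7ffeffffeffebfffffff7e7ffffddffffffdffffffffffcbfff8e9ffbfff6b9a79e5abad9fe878ff1ff762b630f87b53ffffffffef6ffc7ffffdfff45ffbffdffdf7bd8851de8cb40fbc0fffe3f07fce7f3fffffffffffffffffffffffffffbeffffffffffff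

-- part: H650/GU/Grp
section
prune_inst 0x1000010014000000081800002200000020000000000040003040040009461840a045000178300c0080c498d07808000000000100000000000000380000020020802352021224a3042e0001801003180c00000000000000000000000000041000000000000
set_option linter.all false
open scoped Cfsg.Agent.FastGrp

/-!
# S5211: the concrete Sylow `p`-subgroup `GU F` of `G₂(F)` (helper650)

The elements are `x1(r) x2(b) x3(c) x5(d) x6(e) x4(z)`, hexagon labels (`X1, X3, X5` short, `X2, X4, X6` long root groups,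
`X4` central). `Q1 = {r = 0} = X2 ⋯ X6` is the Heisenberg group on `W = (b, c, d, e)` with centre `X4 = (z)`,
`Q2 = {e = 0} = X1 ⋯ X5`. All formulas hold over any commutative ring.
-/

set_option autoImplicit false

namespace Cfsg.Agent.H650.G

universe u

/-- the unipotent group of type `G₂` -/
@[ext] structure GU (F : Type u) where
  r : F
  b : F
  c : F
  d : F
  e : F
  z : F

namespace GU

variable {F : Type u} [CommRing F]

instance : Mul (GU F) := ⟨fun x y =>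
  { r := x.r + y.r
    b := x.b - 3 * y.r * x.c + 3 * y.r ^ 2 * x.d + x.e * y.r ^ 3 + y.b
    c := x.c - 2 * y.r * x.d - x.e * y.r ^ 2 + y.c
    d := x.d + x.e * y.r + y.d
    e := x.e + y.e
    z := x.z + 3 * y.r * x.d ^ 2 + 3 * x.e * y.r ^ 2 * x.d + x.e ^ 2 * y.r ^ 3 + y.z
      - x.e * y.b - 3 * (x.d + x.e * y.r) * y.c }⟩

instance : One (GU F) := ⟨{ r := 0, b := 0, c := 0, d := 0, e := 0, z := 0 }⟩

instance : Inv (GU F) := ⟨fun x =>
  { r := - x.r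
    b := - (x.b + 3 * x.r * x.c + 3 * x.r ^ 2 * x.d - x.e * x.r ^ 3)
    c := - (x.c + 2 * x.r * x.d - x.e * x.r ^ 2)
    d := - (x.d - x.e * x.r)
    e := - x.e
    z := - (x.z - 3 * x.r * x.d ^ 2 + 3 * x.e * x.r ^ 2 * x.d - x.e ^ 2 * x.r ^ 3)
      - x.e * (x.b + 3 * x.r * x.c + 3 * x.r ^ 2 * x.d - x.e * x.r ^ 3)
      - 3 * (x.d - x.e * x.r) * (x.c + 2 * x.r * x.d - x.e * x.r ^ 2) }⟩

@[simp] theorem mul_r (x y : GU F) : (x * y).r = x.r + y.r := rfl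
theorem mul_b (x y : GU F) : (x * y).b =
    x.b - 3 * y.r * x.c + 3 * y.r ^ 2 * x.d + x.e * y.r ^ 3 + y.b := rfl
theorem mul_c (x y : GU F) : (x * y).c = x.c - 2 * y.r * x.d - x.e * y.r ^ 2 + y.c := rfl
theorem mul_d (x y : GU F) : (x * y).d = x.d + x.e * y.r + y.d := rfl
@[simp] theorem mul_e (x y : GU F) : (x * y).e = x.e + y.e := rfl
theorem mul_z (x y : GU F) : (x * y).z =
    x.z + 3 * y.r * x.d ^ 2 + 3 * x.e * y.r ^ 2 * x.d + x.e ^ 2 * y.r ^ 3 + y.z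
      - x.e * y.b - 3 * (x.d + x.e * y.r) * y.c := rfl
@[simp] theorem one_r : (1 : GU F).r = 0 := rfl
@[simp] theorem one_b : (1 : GU F).b = 0 := rfl
@[simp] theorem one_c : (1 : GU F).c = 0 := rfl
@[simp] theorem one_d : (1 : GU F).d = 0 := rfl
@[simp] theorem one_e : (1 : GU F).e = 0 := rfl
@[simp] theorem one_z : (1 : GU F).z = 0 := rfl
@[simp] theorem inv_r (x : GU F) : (x⁻¹).r = - x.r := rfl
theorem inv_b (x : GU F) : (x⁻¹).b =
    - (x.b + 3 * x.r * x.c + 3 * x.r ^ 2 * x.d - x.e * x.r ^ 3) := rfl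
theorem inv_c (x : GU F) : (x⁻¹).c = - (x.c + 2 * x.r * x.d - x.e * x.r ^ 2) := rfl
theorem inv_d (x : GU F) : (x⁻¹).d = - (x.d - x.e * x.r) := rfl
@[simp] theorem inv_e (x : GU F) : (x⁻¹).e = - x.e := rfl
theorem inv_z (x : GU F) : (x⁻¹).z =
    - (x.z - 3 * x.r * x.d ^ 2 + 3 * x.e * x.r ^ 2 * x.d - x.e ^ 2 * x.r ^ 3)
      - x.e * (x.b + 3 * x.r * x.c + 3 * x.r ^ 2 * x.d - x.e * x.r ^ 3)
      - 3 * (x.d - x.e * x.r) * (x.c + 2 * x.r * x.d - x.e * x.r ^ 2) := rfl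

/-- `gu` proves identities between explicit products in `GU F` -/
macro "gu" : tactic => `(tactic|
  (ext <;> (try simp only [mul_r, mul_b, mul_c, mul_d, mul_e, mul_z, inv_r, inv_b, inv_c, inv_d, inv_e, inv_z,
    one_r, one_b, one_c, one_d, one_e, one_z]) <;> (try ring)))

instance : Group (GU F) where
  mul_assoc x y w := by gu
  one_mul x := by gu
  mul_one x := by gu
  inv_mul_cancel x := by gu

instance [Finite F] : Finite (GU F) := Finite.of_injective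
  (fun x : GU F => (x.r, x.b, x.c, x.d, x.e, x.z)) (by
    rintro ⟨r, b, c, d, e, z⟩ ⟨r', b', c', d', e', z'⟩ h
    simp only [Prod.mk.injEq] at h
    obtain ⟨rfl, rfl, rfl, rfl, rfl, rfl⟩ := h
    rfl)

/-- the underlying tuple -/
def equivProd (F : Type u) : GU F ≃ F × F × F × F × F × F where
  toFun x := (x.r, x.b, x.c, x.d, x.e, x.z)
  invFun t := ⟨t.1, t.2.1, t.2.2.1, t.2.2.2.1, t.2.2.2.2.1, t.2.2.2.2.2⟩
  left_inv _ := rfl
  right_inv _ := rfl

theorem card_eq (F : Type u) [CommRing F] : Nat.card (GU F) = Nat.card F ^ 6 := by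
  rw [Nat.card_congr (equivProd F)]
  simp only [Nat.card_prod]
  ring

/-! ### Root elements -/

def x1 (t : F) : GU F := ⟨t, 0, 0, 0, 0, 0⟩
def x2 (t : F) : GU F := ⟨0, t, 0, 0, 0, 0⟩
def x3 (t : F) : GU F := ⟨0, 0, t, 0, 0, 0⟩
def x4 (t : F) : GU F := ⟨0, 0, 0, 0, 0, t⟩
def x5 (t : F) : GU F := ⟨0, 0, 0, t, 0, 0⟩
def x6 (t : F) : GU F := ⟨0, 0, 0, 0, t, 0⟩

/-- unfold root elements -/
macro "gx" : tactic => `(tactic|
  (ext <;> (try simp only [x1, x2, x3, x4, x5, x6, mul_r, mul_b, mul_c, mul_d, mul_e, mul_z, inv_r, inv_b, inv_c,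
    inv_d, inv_e, inv_z, one_r, one_b, one_c, one_d, one_e, one_z, map_add, map_sub, map_mul, map_neg, map_pow,
    map_zero, map_one, map_ofNat]) <;> (try ring)))

/-! ### Automorphisms -/

/-- the torus element with weights `s` on `X1`, `t` on `X6` : `X5 : s t`, `X3 : s² t`, `X2 : s³ t`, `X4 : s³ t²` -/
def tor (s t : Fˣ) : GU F ≃* GU F where
  toFun x := ⟨s * x.r, s ^ 3 * t * x.b, s ^ 2 * t * x.c, s * t * x.d, t * x.e, s ^ 3 * t ^ 2 * x.z⟩
  invFun x := ⟨(s⁻¹ : Fˣ) * x.r, (s⁻¹ : Fˣ) ^ 3 * (t⁻¹ : Fˣ) * x.b, (s⁻¹ : Fˣ) ^ 2 * (t⁻¹ : Fˣ) * x.c,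
    (s⁻¹ : Fˣ) * (t⁻¹ : Fˣ) * x.d, (t⁻¹ : Fˣ) * x.e, (s⁻¹ : Fˣ) ^ 3 * (t⁻¹ : Fˣ) ^ 2 * x.z⟩
  left_inv x := by
    have hs : ((s⁻¹ : Fˣ) : F) * s = 1 := Units.inv_mul s
    have ht : ((t⁻¹ : Fˣ) : F) * t = 1 := Units.inv_mul t
    have h3 : ((s⁻¹ : Fˣ) : F) ^ 3 * s ^ 3 = 1 := by rw [← mul_pow, hs, one_pow]
    have h2 : ((s⁻¹ : Fˣ) : F) ^ 2 * s ^ 2 = 1 := by rw [← mul_pow, hs, one_pow]
    have k2 : ((t⁻¹ : Fˣ) : F) ^ 2 * t ^ 2 = 1 := by rw [← mul_pow, ht, one_pow]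
    ext
    · change ((s⁻¹ : Fˣ) : F) * (s * x.r) = x.r
      linear_combination x.r * hs
    · change ((s⁻¹ : Fˣ) : F) ^ 3 * ((t⁻¹ : Fˣ) : F) * (s ^ 3 * t * x.b) = x.b
      linear_combination (((t⁻¹ : Fˣ) : F) * t * x.b) * h3 + x.b * ht
    · change ((s⁻¹ : Fˣ) : F) ^ 2 * ((t⁻¹ : Fˣ) : F) * (s ^ 2 * t * x.c) = x.c
      linear_combination (((t⁻¹ : Fˣ) : F) * t * x.c) * h2 + x.c * ht
    · change ((s⁻¹ : Fˣ) : F) * ((t⁻¹ : Fˣ) : F) * (s * t * x.d) = x.d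
      linear_combination (((t⁻¹ : Fˣ) : F) * t * x.d) * hs + x.d * ht
    · change ((t⁻¹ : Fˣ) : F) * (t * x.e) = x.e
      linear_combination x.e * ht
    · change ((s⁻¹ : Fˣ) : F) ^ 3 * ((t⁻¹ : Fˣ) : F) ^ 2 * (s ^ 3 * t ^ 2 * x.z) = x.z
      linear_combination (((t⁻¹ : Fˣ) : F) ^ 2 * t ^ 2 * x.z) * h3 + x.z * k2
  right_inv x := by
    have hs : ((s⁻¹ : Fˣ) : F) * s = 1 := Units.inv_mul s
    have ht : ((t⁻¹ : Fˣ) : F) * t = 1 := Units.inv_mul t
    have h3 : ((s⁻¹ : Fˣ) : F) ^ 3 * s ^ 3 = 1 := by rw [← mul_pow, hs, one_pow]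
    have h2 : ((s⁻¹ : Fˣ) : F) ^ 2 * s ^ 2 = 1 := by rw [← mul_pow, hs, one_pow]
    have k2 : ((t⁻¹ : Fˣ) : F) ^ 2 * t ^ 2 = 1 := by rw [← mul_pow, ht, one_pow]
    ext
    · change (s : F) * (((s⁻¹ : Fˣ) : F) * x.r) = x.r
      linear_combination x.r * hs
    · change (s : F) ^ 3 * t * (((s⁻¹ : Fˣ) : F) ^ 3 * ((t⁻¹ : Fˣ) : F) * x.b) = x.b
      linear_combination (((t⁻¹ : Fˣ) : F) * t * x.b) * h3 + x.b * ht
    · change (s : F) ^ 2 * t * (((s⁻¹ : Fˣ) : F) ^ 2 * ((t⁻¹ : Fˣ) : F) * x.c) = x.c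
      linear_combination (((t⁻¹ : Fˣ) : F) * t * x.c) * h2 + x.c * ht
    · change (s : F) * t * (((s⁻¹ : Fˣ) : F) * ((t⁻¹ : Fˣ) : F) * x.d) = x.d
      linear_combination (((t⁻¹ : Fˣ) : F) * t * x.d) * hs + x.d * ht
    · change (t : F) * (((t⁻¹ : Fˣ) : F) * x.e) = x.e
      linear_combination x.e * ht
    · change (s : F) ^ 3 * t ^ 2 * (((s⁻¹ : Fˣ) : F) ^ 3 * ((t⁻¹ : Fˣ) : F) ^ 2 * x.z) = x.z
      linear_combination (((t⁻¹ : Fˣ) : F) ^ 2 * t ^ 2 * x.z) * h3 + x.z * k2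
  map_mul' x y := by
    ext
    · change (s : F) * (x.r + y.r) = s * x.r + s * y.r
      ring
    · change (s : F) ^ 3 * t * (x * y).b = s ^ 3 * t * x.b - 3 * (s * y.r) * (s ^ 2 * t * x.c)
        + 3 * (s * y.r) ^ 2 * (s * t * x.d) + (t * x.e) * (s * y.r) ^ 3 + s ^ 3 * t * y.b
      rw [mul_b]; ring
    · change (s : F) ^ 2 * t * (x * y).c = s ^ 2 * t * x.c - 2 * (s * y.r) * (s * t * x.d)
        - (t * x.e) * (s * y.r) ^ 2 + s ^ 2 * t * y.c
      rw [mul_c]; ring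
    · change (s : F) * t * (x * y).d = s * t * x.d + (t * x.e) * (s * y.r) + s * t * y.d
      rw [mul_d]; ring
    · change (t : F) * (x.e + y.e) = t * x.e + t * y.e
      ring
    · change (s : F) ^ 3 * t ^ 2 * (x * y).z = s ^ 3 * t ^ 2 * x.z + 3 * (s * y.r) * (s * t * x.d) ^ 2
        + 3 * (t * x.e) * (s * y.r) ^ 2 * (s * t * x.d) + (t * x.e) ^ 2 * (s * y.r) ^ 3 + s ^ 3 * t ^ 2 * y.z
        - (t * x.e) * (s ^ 3 * t * y.b) - 3 * (s * t * x.d + (t * x.e) * (s * y.r)) * (s ^ 2 * t * y.c)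
      rw [mul_z]; ring

end GU

end Cfsg.Agent.H650.G

private theorem dce_a3efff02c72b : _root_.True := by
  try have : _root_.True := by simp only [_root_.Cfsg.Agent.H650.G.GU.x2.eq_1]
  try have : _root_.True := by simp only [_root_.Cfsg.Agent.H650.G.GU.x6.eq_1]
  try have : _root_.True := by simp only [_root_.Cfsg.Agent.H650.G.GU.x5.eq_1]
  try have : _root_.True := by simp only [_root_.Cfsg.Agent.H650.G.GU.x3.eq_1]
  try have : _root_.True := by simp only [_root_.Cfsg.Agent.H650.G.GU.x1.eq_1]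
  try have : _root_.True := by simp only [_root_.Cfsg.Agent.H650.G.GU.x4.eq_1]
  exact _root_.True.intro
end

-- part: H650/GU/Root
section
set_option linter.all false
open scoped Cfsg.Agent.FastGrp

-- part: H650/GU/Rel
section
/-!
# S5211: products of root elements from the positive relations `HexRel` (helper650)

`hh b c d e z = x2 b * x3 c * x5 d * x6 e * x4 z`; `hh_mul`, `hh_x1`: multiplication, action of `x1`.
-/

set_option autoImplicit false
set_option linter.unusedSectionVars false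
set_option linter.unusedSimpArgs false

namespace Cfsg.Agent.H650.G.Rel

open Cfsg.Agent.SplitTwo

universe u

section fix

variable {E : Type u} [Field E] {σ : E ≃+* E} [hσ : Fact (∀ a : E, σ (σ (σ a)) = a)]

theorem trc_fix (a b : E) : σ (trc σ a b) = trc σ a b := by
  simp only [trc, map_add, map_mul, hσ.out]; ring

theorem nrm_fix (a : E) : σ (nrm σ a) = nrm σ a := by
  simp only [nrm, map_mul, hσ.out]; ring

end fix

section map

variable {E : Type u} [Field E] {σ : E ≃+* E} [hσ : Fact (∀ a : E, σ (σ (σ a)) = a)]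
variable {G : Type*} [Group G] {x1 x2 x3 x4 x5 x6 : E → G}

theorem swap {a b k : G} (h : kk a b = k) : a * b = b * a * k := by
  rw [← h, kk]; group

theorem swap' {a b k : G} (h : kk a b = k) : b * a = a * b * k⁻¹ := by
  rw [← h, kk]; group

variable (x2 x3 x4 x5 x6) in
/-- the element of the Heisenberg group -/
def hh (b c d e z : E) : G := x2 b * x3 c * x5 d * x6 e * x4 z

variable (h : HexRel σ x1 x2 x3 x4 x5 x6)

include h

theorem x2_zero : x2 0 = 1 := by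
  have := h.add2 0 0 (map_zero _) (map_zero _)
  rw [add_zero] at this
  exact (left_eq_mul).1 this

theorem x3_zero : x3 0 = 1 := by
  have := h.add3 0 0
  rw [add_zero] at this
  exact (left_eq_mul).1 this

theorem x4_zero : x4 0 = 1 := by
  have := h.add4 0 0 (map_zero _) (map_zero _)
  rw [add_zero] at this
  exact (left_eq_mul).1 this

theorem x5_zero : x5 0 = 1 := by
  have := h.add5 0 0
  rw [add_zero] at this
  exact (left_eq_mul).1 this

theorem x6_zero : x6 0 = 1 := by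
  have := h.add6 0 0 (map_zero _) (map_zero _)
  rw [add_zero] at this
  exact (left_eq_mul).1 this

theorem x1_zero : x1 0 = 1 := by
  have := h.add1 0 0
  rw [add_zero] at this
  exact (left_eq_mul).1 this

theorem x2_neg {b : E} (hb : σ b = b) : (x2 b)⁻¹ = x2 (-b) := by
  rw [inv_eq_iff_mul_eq_one, ← h.add2 _ _ hb (by rw [map_neg, hb]), add_neg_cancel, x2_zero h]

theorem x3_neg (b : E) : (x3 b)⁻¹ = x3 (-b) := by
  rw [inv_eq_iff_mul_eq_one, ← h.add3, add_neg_cancel, x3_zero h]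

theorem x4_neg {b : E} (hb : σ b = b) : (x4 b)⁻¹ = x4 (-b) := by
  rw [inv_eq_iff_mul_eq_one, ← h.add4 _ _ hb (by rw [map_neg, hb]), add_neg_cancel, x4_zero h]

theorem x5_neg (b : E) : (x5 b)⁻¹ = x5 (-b) := by
  rw [inv_eq_iff_mul_eq_one, ← h.add5, add_neg_cancel, x5_zero h]

theorem c42 {t u : E} (ht : σ t = t) (hu : σ u = u) : x4 u * x2 t = x2 t * x4 u := by
  rw [swap' (h.c24 t u ht hu), inv_one, mul_one]
theorem c43 {t a : E} (ht : σ t = t) : x4 t * x3 a = x3 a * x4 t := by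
  rw [swap' (h.c34 a t ht), inv_one, mul_one]
theorem c45 {t a : E} (ht : σ t = t) : x4 t * x5 a = x5 a * x4 t := by
  rw [swap (h.c45 t a ht), mul_one]
theorem c46 {t u : E} (ht : σ t = t) (hu : σ u = u) : x4 t * x6 u = x6 u * x4 t := by
  rw [swap (h.c46 t u ht hu), mul_one]
theorem c41 {t a : E} (ht : σ t = t) : x4 t * x1 a = x1 a * x4 t := by
  rw [swap' (h.c14 a t ht), inv_one, mul_one]
theorem c32 {t a : E} (ht : σ t = t) : x3 a * x2 t = x2 t * x3 a := by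
  rw [swap' (h.c23 t a ht), inv_one, mul_one]
theorem c52 {t a : E} (ht : σ t = t) : x5 a * x2 t = x2 t * x5 a := by
  rw [swap' (h.c25 t a ht), inv_one, mul_one]
theorem c63 {t a : E} (ht : σ t = t) : x6 t * x3 a = x3 a * x6 t := by
  rw [swap' (h.c36 a t ht), inv_one, mul_one]
theorem c65 {t a : E} (ht : σ t = t) : x6 t * x5 a = x5 a * x6 t := by
  rw [swap' (h.c56 a t ht), inv_one, mul_one]
theorem c62 {t u : E} (ht : σ t = t) (hu : σ u = u) : x6 u * x2 t = x2 t * x6 u * x4 (-(u * t)) := by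
  have h1 : σ (t * u) = t * u := by rw [map_mul, ht, hu]
  rw [swap' (h.c26 t u ht hu), x4_neg h h1, mul_comm t u]
theorem c53 (a b : E) : x5 b * x3 a = x3 a * x5 b * x4 (-(trc σ b a)) := by
  rw [swap' (h.c35 a b), x4_neg h (trc_fix a b)]
  congr 3
  simp only [trc, mul_comm]

theorem hh_x2 {b c d e z t : E} (hb : σ b = b) (he : σ e = e) (hz : σ z = z) (ht : σ t = t) :
    hh x2 x3 x4 x5 x6 b c d e z * x2 t = hh x2 x3 x4 x5 x6 (b + t) c d e (z - e * t) := by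
  have h1 : σ (-(e * t)) = -(e * t) := by rw [map_neg, map_mul, he, ht]
  unfold hh
  calc x2 b * x3 c * x5 d * x6 e * x4 z * x2 t = x2 b * x3 c * x5 d * x6 e * (x4 z * x2 t) := by group
    _ = x2 b * x3 c * x5 d * (x6 e * x2 t) * x4 z := by rw [c42 h ht hz]; group
    _ = x2 b * x3 c * (x5 d * x2 t) * x6 e * (x4 (-(e * t)) * x4 z) := by rw [c62 h ht he]; group
    _ = x2 b * (x3 c * x2 t) * x5 d * x6 e * x4 (z - e * t) := by
      rw [c52 h ht, ← h.add4 _ _ h1 hz]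
      rw [show -(e * t) + z = z - e * t by ring]
      group
    _ = _ := by
      rw [c32 h ht, h.add2 _ _ hb ht]
      group

theorem hh_x3 {b c d e z a : E} (he : σ e = e) (hz : σ z = z) :
    hh x2 x3 x4 x5 x6 b c d e z * x3 a = hh x2 x3 x4 x5 x6 b (c + a) d e (z - trc σ d a) := by
  have h1 : σ (-(trc σ d a)) = -(trc σ d a) := by rw [map_neg, trc_fix]
  unfold hh
  calc x2 b * x3 c * x5 d * x6 e * x4 z * x3 a = x2 b * x3 c * x5 d * x6 e * (x4 z * x3 a) := by group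
    _ = x2 b * x3 c * x5 d * (x6 e * x3 a) * x4 z := by rw [c43 h hz]; group
    _ = x2 b * x3 c * (x5 d * x3 a) * x6 e * x4 z := by rw [c63 h he]; group
    _ = x2 b * x3 c * x3 a * x5 d * (x4 (-(trc σ d a)) * x6 e) * x4 z := by
      rw [c53 h]; group
    _ = x2 b * (x3 c * x3 a) * x5 d * x6 e * (x4 (-(trc σ d a)) * x4 z) := by
      rw [c46 h h1 he]; group
    _ = _ := by
      rw [← h.add4 _ _ h1 hz, ← h.add3, show -(trc σ d a) + z = z - trc σ d a by ring]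

theorem hh_x5 {b c d e z a : E} (he : σ e = e) (hz : σ z = z) :
    hh x2 x3 x4 x5 x6 b c d e z * x5 a = hh x2 x3 x4 x5 x6 b c (d + a) e z := by
  unfold hh
  calc x2 b * x3 c * x5 d * x6 e * x4 z * x5 a = x2 b * x3 c * x5 d * x6 e * (x4 z * x5 a) := by group
    _ = x2 b * x3 c * x5 d * (x6 e * x5 a) * x4 z := by rw [c45 h hz]; group
    _ = x2 b * x3 c * (x5 d * x5 a) * x6 e * x4 z := by rw [c65 h he]; group
    _ = _ := by rw [← h.add5]

theorem hh_x6 {b c d e z t : E} (he : σ e = e) (hz : σ z = z) (ht : σ t = t) :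
    hh x2 x3 x4 x5 x6 b c d e z * x6 t = hh x2 x3 x4 x5 x6 b c d (e + t) z := by
  unfold hh
  calc x2 b * x3 c * x5 d * x6 e * x4 z * x6 t = x2 b * x3 c * x5 d * x6 e * (x4 z * x6 t) := by group
    _ = x2 b * x3 c * x5 d * (x6 e * x6 t) * x4 z := by rw [c46 h hz ht]; group
    _ = _ := by rw [← h.add6 _ _ he ht]

theorem hh_x4 {b c d e z t : E} (hz : σ z = z) (ht : σ t = t) :
    hh x2 x3 x4 x5 x6 b c d e z * x4 t = hh x2 x3 x4 x5 x6 b c d e (z + t) := by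
  unfold hh
  rw [h.add4 _ _ hz ht]
  group

/-- the product in the Heisenberg group -/
theorem hh_mul {b c d e z b' c' d' e' z' : E} (hb : σ b = b) (he : σ e = e) (hz : σ z = z)
    (hb' : σ b' = b') (he' : σ e' = e') (hz' : σ z' = z') :
    hh x2 x3 x4 x5 x6 b c d e z * hh x2 x3 x4 x5 x6 b' c' d' e' z' =
      hh x2 x3 x4 x5 x6 (b + b') (c + c') (d + d') (e + e') (z + z' - e * b' - trc σ d c') := by
  have e1 : σ (z - e * b') = z - e * b' := by rw [map_sub, map_mul, hz, he, hb']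
  have e2 : σ (z - e * b' - trc σ d c') = z - e * b' - trc σ d c' := by rw [map_sub, e1, trc_fix]
  have e3 : σ (b + b') = b + b' := by rw [map_add, hb, hb']
  have e4 : σ (e + e') = e + e' := by rw [map_add, he, he']
  have : hh x2 x3 x4 x5 x6 b c d e z * hh x2 x3 x4 x5 x6 b' c' d' e' z' =
      ((((hh x2 x3 x4 x5 x6 b c d e z * x2 b') * x3 c') * x5 d') * x6 e') * x4 z' := by
    unfold hh; group
  rw [this, hh_x2 h hb he hz hb', hh_x3 h he e1, hh_x5 h he e2, hh_x6 h he e2 he', hh_x4 h e2 hz']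
  congr 1
  ring

theorem x6_x1 {e : E} (he : σ e = e) (s : E) : x6 e * x1 s =
    x1 s * hh x2 x3 x4 x5 x6 (e * nrm σ s) (-(e * shp σ s)) (e * s) e (e ^ 2 * nrm σ s) := by
  have f1 : σ (e * nrm σ s) = e * nrm σ s := by rw [map_mul, he, nrm_fix]
  have f2 : σ (-(e * nrm σ s)) = -(e * nrm σ s) := by rw [map_neg, f1]
  have f3 : σ (e ^ 2 * nrm σ s) = e ^ 2 * nrm σ s := by rw [map_mul, map_pow, he, nrm_fix]
  have f4 : σ (-(e ^ 2 * nrm σ s)) = -(e ^ 2 * nrm σ s) := by rw [map_neg, f3]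
  have f0 : σ (0 : E) = 0 := map_zero _
  rw [swap' (h.c16 s e he)]
  have k1 : (x2 (-(e * nrm σ s)) * x3 (e * shp σ s) * x4 (e ^ 2 * nrm σ s) * x5 (-(e * s)))⁻¹ =
      x5 (e * s) * x4 (-(e ^ 2 * nrm σ s)) * x3 (-(e * shp σ s)) * x2 (e * nrm σ s) := by
    simp only [mul_inv_rev]
    rw [x2_neg h f2, x3_neg h, x4_neg h f3, x5_neg h, neg_neg, neg_neg]
    group
  rw [k1, mul_assoc]
  congr 1
  have k2 : x6 e = hh x2 x3 x4 x5 x6 0 0 0 e 0 := by
    unfold hh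
    rw [x2_zero h, x3_zero h, x5_zero h, x4_zero h]; group
  rw [k2, ← mul_assoc, ← mul_assoc, ← mul_assoc, hh_x5 h he f0, hh_x4 h f0 f4, hh_x3 h he (by rw [zero_add]; exact f4),
    hh_x2 h f0 he ?_ f1]
  · have k3 : 0 + -(e ^ 2 * nrm σ s) - trc σ (0 + e * s) (-(e * shp σ s)) - e * (e * nrm σ s) = e ^ 2 * nrm σ s := by
      simp only [trc, nrm, shp, map_mul, map_neg, map_add, map_zero, he, hσ.out]
      ring
    rw [k3, zero_add, zero_add, zero_add]
  · rw [map_sub, trc_fix, map_add, f4, map_zero]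

theorem x5_x1 (d s : E) : x5 d * x1 s =
    x1 s * hh x2 x3 x4 x5 x6 (trc σ (shp σ s) d) (-(crs σ s d)) d 0 (trc σ s (shp σ d)) := by
  have f1 : σ (trc σ (shp σ s) d) = trc σ (shp σ s) d := trc_fix _ _
  have f2 : σ (-(trc σ (shp σ s) d)) = -(trc σ (shp σ s) d) := by rw [map_neg, f1]
  have f3 : σ (trc σ s (shp σ d)) = trc σ s (shp σ d) := trc_fix _ _
  have f4 : σ (-(trc σ s (shp σ d))) = -(trc σ s (shp σ d)) := by rw [map_neg, f3]
  have f0 : σ (0 : E) = 0 := map_zero _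
  rw [swap' (h.c15 s d)]
  have k1 : (x2 (-(trc σ (shp σ s) d)) * x3 (crs σ s d) * x4 (trc σ s (shp σ d)))⁻¹ =
      x4 (-(trc σ s (shp σ d))) * x3 (-(crs σ s d)) * x2 (trc σ (shp σ s) d) := by
    simp only [mul_inv_rev]
    rw [x2_neg h f2, x3_neg h, x4_neg h f3, neg_neg]
    group
  rw [k1, mul_assoc]
  congr 1
  have k2 : x5 d = hh x2 x3 x4 x5 x6 0 0 d 0 0 := by
    unfold hh
    rw [x2_zero h, x3_zero h, x6_zero h, x4_zero h]; group
  rw [k2, ← mul_assoc, ← mul_assoc, hh_x4 h f0 f4, hh_x3 h f0 (by rw [zero_add]; exact f4),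
    hh_x2 h f0 f0 ?_ f1]
  · have k3 : 0 + -(trc σ s (shp σ d)) - trc σ d (-(crs σ s d)) - 0 * (trc σ (shp σ s) d) = trc σ s (shp σ d) := by
      simp only [trc, crs, shp, map_mul, map_neg, map_add, map_zero, hσ.out]
      ring
    rw [k3, zero_add, zero_add]
  · rw [map_sub, trc_fix, map_add, f4, map_zero]

theorem x3_x1 (c s : E) : x3 c * x1 s = x1 s * hh x2 x3 x4 x5 x6 (-(trc σ s c)) c 0 0 0 := by
  rw [swap' (h.c13 s c), x2_neg h (trc_fix _ _), mul_assoc, c32 h (by rw [map_neg, trc_fix])]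
  unfold hh
  rw [x5_zero h, x6_zero h, x4_zero h]; group

theorem x2_x1 {b : E} (hb : σ b = b) (s : E) : x2 b * x1 s = x1 s * hh x2 x3 x4 x5 x6 b 0 0 0 0 := by
  rw [swap' (h.c12 s b hb), inv_one, mul_one]
  unfold hh
  rw [x3_zero h, x5_zero h, x6_zero h, x4_zero h]; group

theorem hh_x1 {b c d e z : E} (hb : σ b = b) (he : σ e = e) (hz : σ z = z) (s : E) :
    hh x2 x3 x4 x5 x6 b c d e z * x1 s = x1 s * hh x2 x3 x4 x5 x6
      (b - trc σ s c + trc σ (shp σ s) d + e * nrm σ s) (c - crs σ s d - e * shp σ s) (d + e * s) e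
      (z + trc σ s (shp σ d) + e * trc σ (shp σ s) d + e ^ 2 * nrm σ s) := by
  have f0 : σ (0 : E) = 0 := map_zero _
  have f1 : σ (-(trc σ s c)) = -(trc σ s c) := by rw [map_neg, trc_fix]
  have f2 : σ (trc σ (shp σ s) d) = trc σ (shp σ s) d := trc_fix _ _
  have f3 : σ (trc σ s (shp σ d)) = trc σ s (shp σ d) := trc_fix _ _
  have f4 : σ (e * nrm σ s) = e * nrm σ s := by rw [map_mul, he, nrm_fix]
  have f5 : σ (e ^ 2 * nrm σ s) = e ^ 2 * nrm σ s := by rw [map_mul, map_pow, he, nrm_fix]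
  have k1 : hh x2 x3 x4 x5 x6 b c d e z * x1 s = x1 s * (hh x2 x3 x4 x5 x6 b 0 0 0 0 *
      hh x2 x3 x4 x5 x6 (-(trc σ s c)) c 0 0 0 *
      hh x2 x3 x4 x5 x6 (trc σ (shp σ s) d) (-(crs σ s d)) d 0 (trc σ s (shp σ d)) *
      hh x2 x3 x4 x5 x6 (e * nrm σ s) (-(e * shp σ s)) (e * s) e (e ^ 2 * nrm σ s) * x4 z) := by
    have : hh x2 x3 x4 x5 x6 b c d e z = x2 b * x3 c * x5 d * x6 e * x4 z := rfl
    rw [this]
    calc x2 b * x3 c * x5 d * x6 e * x4 z * x1 s = x2 b * x3 c * x5 d * (x6 e * x1 s) * x4 z := by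
          rw [mul_assoc, c41 h hz]; group
      _ = x2 b * x3 c * (x5 d * x1 s) *
          hh x2 x3 x4 x5 x6 (e * nrm σ s) (-(e * shp σ s)) (e * s) e (e ^ 2 * nrm σ s) * x4 z := by
          rw [x6_x1 h he]; group
      _ = x2 b * (x3 c * x1 s) * hh x2 x3 x4 x5 x6 (trc σ (shp σ s) d) (-(crs σ s d)) d 0 (trc σ s (shp σ d)) *
          hh x2 x3 x4 x5 x6 (e * nrm σ s) (-(e * shp σ s)) (e * s) e (e ^ 2 * nrm σ s) * x4 z := by
          rw [x5_x1 h]; group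
      _ = (x2 b * x1 s) * hh x2 x3 x4 x5 x6 (-(trc σ s c)) c 0 0 0 *
          hh x2 x3 x4 x5 x6 (trc σ (shp σ s) d) (-(crs σ s d)) d 0 (trc σ s (shp σ d)) *
          hh x2 x3 x4 x5 x6 (e * nrm σ s) (-(e * shp σ s)) (e * s) e (e ^ 2 * nrm σ s) * x4 z := by
          rw [x3_x1 h]; group
      _ = _ := by rw [x2_x1 h hb]; group
  rw [k1, hh_mul h hb f0 f0 f1 f0 f0, hh_mul h (by rw [map_add, hb, f1]) (by rw [add_zero, f0])
    (by simp only [map_sub, map_add, map_mul, trc_fix, f0, f1]) f2 f0 f3,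
    hh_mul h (by rw [map_add, map_add, hb, f1, f2]) (by simp) (by
      simp only [map_sub, map_add, map_mul, trc_fix, f0, f1, f2]) f4 he f5, hh_x4 h (by
      simp only [map_sub, map_add, map_mul, trc_fix, f0, f1, f2, f4, f5]) hz]
  congr 1
  have g1 : b + -trc σ s c + trc σ (shp σ s) d + e * nrm σ s = b - trc σ s c + trc σ (shp σ s) d + e * nrm σ s := by
    ring
  have g2 : 0 + c + -crs σ s d + -(e * shp σ s) = c - crs σ s d - e * shp σ s := by ring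
  have g3 : (0 : E) + 0 + d + e * s = d + e * s := by ring
  have g4 : (0 : E) + 0 + 0 + e = e := by ring
  rw [g1, g2, g3, g4]
  congr 1
  simp only [trc, nrm, shp, crs, map_mul, map_neg, map_add, map_zero, he, hσ.out]
  ring

end map

end Cfsg.Agent.H650.G.Rel
end

-- part: H650/GU/Syl
section
/-!
# S5211: the Sylow `p`-subgroups of `G₂(pⁿ)` are isomorphic to `GU` (helper650)
-/

set_option autoImplicit false

namespace Cfsg.Agent.H650.G

open Cfsg.Lie Cfsg.Agent.SplitTwo Cfsg.Agent.ChevalleyStructure.Elts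
open Cfsg.Agent.Hexagon.G2Pos Cfsg.Agent.Hexagon.G2Side

universe u

section rel

variable {F : Type u} [Field F] {G : Type*} [Group G] {x1 x2 x3 x4 x5 x6 : F → G}

instance : Fact (∀ a : F, (RingEquiv.refl F) ((RingEquiv.refl F) ((RingEquiv.refl F) a)) = a) := ⟨fun _ => rfl⟩

/-- The homomorphism `GU F → G` from the positive relations. -/
def relHom (h : HexRel (RingEquiv.refl F) x1 x2 x3 x4 x5 x6) : GU F →* G where
  toFun x := x1 x.r * Rel.hh x2 x3 x4 x5 x6 x.b x.c x.d x.e x.z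
  map_one' := by
    change x1 0 * Rel.hh x2 x3 x4 x5 x6 0 0 0 0 0 = 1
    unfold Rel.hh
    rw [Rel.x1_zero h, Rel.x2_zero h, Rel.x3_zero h, Rel.x4_zero h, Rel.x5_zero h, Rel.x6_zero h]
    simp
  map_mul' x y := by
    have f : ∀ a : F, (RingEquiv.refl F) a = a := fun _ => rfl
    have e1 := Rel.hh_x1 h (b := x.b) (c := x.c) (d := x.d) (e := x.e) (z := x.z) (f _) (f _) (f _) y.r
    have e2 := Rel.hh_mul h (b := x.b - trc (RingEquiv.refl F) y.r x.c + trc (RingEquiv.refl F) (shp (RingEquiv.refl F) y.r) x.d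
        + x.e * nrm (RingEquiv.refl F) y.r) (c := x.c - crs (RingEquiv.refl F) y.r x.d - x.e * shp (RingEquiv.refl F) y.r)
      (d := x.d + x.e * y.r) (e := x.e) (z := x.z + trc (RingEquiv.refl F) y.r (shp (RingEquiv.refl F) x.d)
        + x.e * trc (RingEquiv.refl F) (shp (RingEquiv.refl F) y.r) x.d + x.e ^ 2 * nrm (RingEquiv.refl F) y.r)
      (b' := y.b) (c' := y.c) (d' := y.d) (e' := y.e) (z' := y.z) (f _) (f _) (f _) (f _) (f _) (f _)
    have e3 : x1 x.r * Rel.hh x2 x3 x4 x5 x6 x.b x.c x.d x.e x.z * (x1 y.r * Rel.hh x2 x3 x4 x5 x6 y.b y.c y.d y.e y.z)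
        = x1 x.r * (Rel.hh x2 x3 x4 x5 x6 x.b x.c x.d x.e x.z * x1 y.r) * Rel.hh x2 x3 x4 x5 x6 y.b y.c y.d y.e y.z := by
      group
    rw [e3, e1]
    have e4 : ∀ a b c d : G, a * (b * c) * d = (a * b) * (c * d) := fun a b c d => by group
    rw [e4, e2, ← h.add1]
    have k1 : ∀ a b : F, trc (RingEquiv.refl F) a b = 3 * a * b := fun a b => by
      simp only [trc, RingEquiv.refl_apply]; ring
    have k2 : ∀ a : F, shp (RingEquiv.refl F) a = a ^ 2 := fun a => by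
      simp only [shp, RingEquiv.refl_apply]; ring
    have k3 : ∀ a : F, nrm (RingEquiv.refl F) a = a ^ 3 := fun a => by
      simp only [nrm, RingEquiv.refl_apply]; ring
    have k4 : ∀ a b : F, crs (RingEquiv.refl F) a b = 2 * a * b := fun a b => by
      simp only [crs, RingEquiv.refl_apply]; ring
    simp only [k1, k2, k3, k4]
    rw [GU.mul_r, GU.mul_b, GU.mul_c, GU.mul_d, GU.mul_e, GU.mul_z]
    congr 2
    ring

theorem relHom_apply (h : HexRel (RingEquiv.refl F) x1 x2 x3 x4 x5 x6) (x : GU F) :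
    relHom h x = x1 x.r * (x2 x.b * x3 x.c * x5 x.d * x6 x.e * x4 x.z) := rfl

theorem relHom_x (h : HexRel (RingEquiv.refl F) x1 x2 x3 x4 x5 x6) (t : F) :
    relHom h (GU.x1 t) = x1 t ∧ relHom h (GU.x2 t) = x2 t ∧ relHom h (GU.x3 t) = x3 t ∧
      relHom h (GU.x4 t) = x4 t ∧ relHom h (GU.x5 t) = x5 t ∧ relHom h (GU.x6 t) = x6 t := by
  simp only [relHom_apply, GU.x1, GU.x2, GU.x3, GU.x4, GU.x5, GU.x6, Rel.x1_zero h, Rel.x2_zero h, Rel.x3_zero h,
    Rel.x4_zero h, Rel.x5_zero h, Rel.x6_zero h, one_mul, mul_one, and_self]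

end rel

section chev

variable (F : Type u) [Field F]

/-- the root elements of `chevG2.group F` -/
noncomputable def toChev : GU F →* ↥(chevG2.group F) := relHom (Cfsg.Agent.Hexagon.G2End.hexPar (F := F)).rel

variable {F}

theorem X_le_range {k : ZMod (2 * 6)} (hk : k ∈ ({1, 2, 3, 4, 5, 6} : Finset (ZMod (2 * 6)))) :
    X F k ≤ (toChev F).range := by
  have P := Cfsg.Agent.Hexagon.G2End.hexPar (F := F)
  have f : ∀ a : F, (RingEquiv.refl F) a = a := fun _ => rfl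
  intro g hg
  simp only [Finset.mem_insert, Finset.mem_singleton] at hk
  rcases hk with rfl | rfl | rfl | rfl | rfl | rfl
  · obtain ⟨a, rfl⟩ := (P.mem1 _).1 hg
    exact ⟨GU.x1 a, (relHom_x P.rel a).1⟩
  · obtain ⟨a, -, rfl⟩ := (P.mem2 _).1 hg
    exact ⟨GU.x2 a, (relHom_x P.rel a).2.1⟩
  · obtain ⟨a, rfl⟩ := (P.mem3 _).1 hg
    exact ⟨GU.x3 a, (relHom_x P.rel a).2.2.1⟩
  · obtain ⟨a, -, rfl⟩ := (P.mem4 _).1 hg
    exact ⟨GU.x4 a, (relHom_x P.rel a).2.2.2.1⟩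
  · obtain ⟨a, rfl⟩ := (P.mem5 _).1 hg
    exact ⟨GU.x5 a, (relHom_x P.rel a).2.2.2.2.1⟩
  · obtain ⟨a, -, rfl⟩ := (P.mem6 _).1 hg
    exact ⟨GU.x6 a, (relHom_x P.rel a).2.2.2.2.2⟩

theorem tab_pos' : ∀ r < 12, chevG2.IsPosRoot r → ∃ k : ZMod (2 * 6),
    k ∈ ({1, 2, 3, 4, 5, 6} : Finset (ZMod (2 * 6))) ∧ tab k = r := by decide +kernel

theorem posUnipotent_le : chevG2.posUnipotent F ≤ (toChev F).range.map (chevG2.group F).subtype := by
  unfold ChevalleyDatum.posUnipotent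
  rw [Subgroup.closure_le]
  rintro g ⟨r, t, hr, hg⟩
  obtain ⟨k, hk, rfl⟩ := tab_pos' r hr.1 hr
  refine ⟨xs (tab k) t, X_le_range hk (mem_X.2 ⟨t, rfl⟩), ?_⟩
  apply Units.ext
  rw [hg]
  rfl

theorem card_range_le [Finite F] : Nat.card (toChev F).range ≤ Nat.card (GU F) :=
  Nat.card_le_card_of_surjective _ (toChev F).rangeRestrict_surjective

theorem le_card_range [Finite F] : Nat.card F ^ 6 ≤ Nat.card (toChev F).range := by
  have := Fintype.ofFinite F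
  have h1 := Cfsg.Agent.S1027.result (F := F) chevG2 (by simp)
  have h2 : chevG2.nroots / 2 = 6 := by decide +kernel
  rw [h2, ← Nat.card_eq_fintype_card] at h1
  rw [← h1, Nat.card_congr ((toChev F).range.equivMapOfInjective _ (chevG2.group F).subtype_injective).toEquiv]
  have : Finite ((toChev F).range.map (chevG2.group F).subtype) :=
    Finite.of_surjective _ ((toChev F).range.equivMapOfInjective _ (chevG2.group F).subtype_injective).surjective
  exact Nat.card_le_card_of_injective _ (Subgroup.inclusion_injective posUnipotent_le)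

theorem card_range [Finite F] : Nat.card (toChev F).range = Nat.card F ^ 6 :=
  le_antisymm (card_range_le.trans (GU.card_eq F).le) le_card_range

theorem toChev_injective [Finite F] : Function.Injective (toChev F) := by
  have h1 : Function.Bijective (toChev F).rangeRestrict := by
    rw [Nat.bijective_iff_surjective_and_card]
    exact ⟨(toChev F).rangeRestrict_surjective, by rw [card_range, GU.card_eq]⟩
  intro x y h
  exact h1.1 (Subtype.ext h)

/-- **The Sylow `p`-subgroups of `chevG2.group F`.** -/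
theorem exists_equiv_chev [Finite F] {p : ℕ} [Fact p.Prime] [CharP F p] (T : Sylow p ↥(chevG2.group F)) :
    Nonempty (T ≃* GU F) := by
  have := Fintype.ofFinite F
  have hp : p.Prime := Fact.out
  obtain ⟨n, -, hn⟩ := FiniteField.card F p
  have hq : Nat.card F = p ^ (n : ℕ) := by rw [Nat.card_eq_fintype_card, hn]
  have : Finite ↥(chevG2.group F) := by
    have : Finite (GL chevG2.Idx F) := inferInstance
    infer_instance
  have hG : Nat.card ↥(chevG2.group F) = Nat.card F ^ 6 * (Nat.card F ^ 2 - 1) * (Nat.card F ^ 6 - 1) :=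
    Cfsg.Agent.S1059.result (F := F) Nat.card_eq_fintype_card.symm
  have hn0 : (n : ℕ) ≠ 0 := n.ne_zero
  have hcop : ∀ k : ℕ, k ≠ 0 → ¬ p ∣ Nat.card F ^ k - 1 := by
    intro k hk h
    have h1 : p ∣ Nat.card F ^ k := by
      rw [hq, ← pow_mul]
      exact dvd_pow_self p (mul_ne_zero hn0 hk)
    have h2 : 1 ≤ Nat.card F ^ k := Nat.one_le_pow _ _ Nat.card_pos
    have h3 : p ∣ 1 := (Nat.dvd_sub h1 h).trans (by rw [Nat.sub_sub_self h2])
    exact hp.one_lt.ne' (Nat.dvd_one.1 h3)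
  let e1 : GU F ≃* (toChev F).range := MonoidHom.ofInjective toChev_injective
  have hP : IsPGroup p (toChev F).range := by
    refine IsPGroup.of_card (n := (n : ℕ) * 6) ?_
    rw [card_range, hq, pow_mul]
  obtain ⟨Q, hQ⟩ := hP.exists_le_sylow
  have hQc : Nat.card Q = Nat.card (toChev F).range := by
    refine Nat.dvd_antisymm ?_ (Subgroup.card_dvd_of_le hQ)
    obtain ⟨m, hm⟩ := (IsPGroup.iff_card.1 Q.isPGroup')
    have h1 : Nat.card Q ∣ Nat.card F ^ 6 * ((Nat.card F ^ 2 - 1) * (Nat.card F ^ 6 - 1)) := by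
      rw [← mul_assoc, ← hG]
      exact Subgroup.card_subgroup_dvd_card _
    rw [card_range]
    refine Nat.Coprime.dvd_of_dvd_mul_right ?_ h1
    rw [hm]
    apply Nat.Coprime.pow_left
    rw [Nat.Prime.coprime_iff_not_dvd hp, hp.dvd_mul]
    rintro (h | h)
    · exact hcop 2 (by norm_num) h
    · exact hcop 6 (by norm_num) h
  have hQe : (Q : Subgroup ↥(chevG2.group F)) = (toChev F).range :=
    (Subgroup.eq_of_le_of_card_ge hQ hQc.le).symm
  obtain ⟨e2⟩ : Nonempty (T ≃* Q) := ⟨Sylow.equiv T Q⟩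
  exact ⟨(e2.trans (MulEquiv.subgroupCongr hQe)).trans e1.symm⟩

/-- **The Sylow `p`-subgroups of `G₂(F)`.** -/
theorem exists_equiv [Finite F] {p : ℕ} [Fact p.Prime] [CharP F p] (T : Sylow p ↥(Cfsg.Lie.G2 F)) :
    Nonempty (T ≃* GU F) := by
  obtain ⟨e⟩ := Cfsg.Agent.H638.G2Iso.equiv (F := F)
  have : Finite ↥(chevG2.group F) := by
    have : Finite (GL chevG2.Idx F) := inferInstance
    infer_instance
  have : Finite ↥(Cfsg.Lie.G2 F) := Finite.of_equiv _ e.symm.toEquiv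
  let T' : Sylow p ↥(chevG2.group F) := T.mapSurjective (f := e.toMonoidHom) e.surjective
  obtain ⟨e1⟩ := exists_equiv_chev (F := F) T'
  exact ⟨((T : Subgroup ↥(Cfsg.Lie.G2 F)).equivMapOfInjective e.toMonoidHom e.injective).trans e1⟩

end chev

end Cfsg.Agent.H650.G
end

-- part: H650/GU/Iso
section
/-!
# S5211: the isomorphism with helper779's group, (SYL) (helper650)
-/

set_option autoImplicit false

namespace Cfsg.Agent.H650.G

universe u

variable {F : Type u} [Field F]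

/-- `x1 -> x1, x6 -> x2, x5 -> x3, x3(t) -> x4(-t), x2 -> x5, x4(t) -> x6(-t)` -/
def isoH : GU F ≃* H779.G2.GU F where
  toFun x := ⟨x.r, x.e, x.d, -x.c, x.b, - (3 * x.c * x.d) - x.b * x.e - x.z⟩
  invFun y := ⟨y.a, y.e, -y.d, y.c, y.b, 3 * y.d * y.c - y.e * y.b - y.f⟩
  left_inv x := by
    ext <;> simp only [] <;> ring
  right_inv y := by
    ext <;> simp only [] <;> ring
  map_mul' x y := by
    ext
    · rfl
    · rfl
    · simp only [GU.mul_d, H779.G2.GU.mul_c]; ring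
    · simp only [GU.mul_c, H779.G2.GU.mul_d]; ring
    · simp only [GU.mul_b, H779.G2.GU.mul_e]; ring
    · simp only [GU.mul_b, GU.mul_c, GU.mul_d, GU.mul_e, GU.mul_z, H779.G2.GU.mul_f]; ring

theorem isoH_symm_apply (y : H779.G2.GU F) :
    isoH.symm y = ⟨y.a, y.e, -y.d, y.c, y.b, 3 * y.d * y.c - y.e * y.b - y.f⟩ := rfl

/-- **(SYL)** -/
theorem stSyl : H779.G2.StSyl.{u} := by
  intro K _ p n _ hK T
  have : Finite K := hK.fin
  have : CharP K p := hK.char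
  obtain ⟨e⟩ := exists_equiv (F := K) T
  exact ⟨e.trans isoH⟩

end Cfsg.Agent.H650.G
end

-- part: H650/GU/Aut
section
/-!
# S5211: the torus, field and graph automorphisms of `GU K`, the Weyl elements on `Q_a`, `Q_b`; (GRP) (helper650)
-/

set_option autoImplicit false
set_option linter.unusedSimpArgs false

namespace Cfsg.Agent.H650.GA

open Cfsg.Agent.H779.G2

universe u

variable {K : Type u} [Field K]

/-! ### torus and field automorphisms -/

/-- the automorphism `IsTor s t τ` -/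
def torE (s t : K) (τ : K ≃+* K) (hs : s ≠ 0) (ht : t ≠ 0) : MulAut (GU K) where
  toFun g := ⟨s * τ g.a, t * τ g.b, s * t * τ g.c, s ^ 2 * t * τ g.d, s ^ 3 * t * τ g.e, s ^ 3 * t ^ 2 * τ g.f⟩
  invFun g := ⟨τ.symm (s⁻¹ * g.a), τ.symm (t⁻¹ * g.b), τ.symm ((s * t)⁻¹ * g.c), τ.symm ((s ^ 2 * t)⁻¹ * g.d),
    τ.symm ((s ^ 3 * t)⁻¹ * g.e), τ.symm ((s ^ 3 * t ^ 2)⁻¹ * g.f)⟩
  left_inv g := by
    have h1 : s * t ≠ 0 := mul_ne_zero hs ht
    have h2 : s ^ 2 * t ≠ 0 := mul_ne_zero (pow_ne_zero _ hs) ht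
    have h3 : s ^ 3 * t ≠ 0 := mul_ne_zero (pow_ne_zero _ hs) ht
    have h4 : s ^ 3 * t ^ 2 ≠ 0 := mul_ne_zero (pow_ne_zero _ hs) (pow_ne_zero _ ht)
    ext
    · simp only [inv_mul_cancel_left₀ hs, RingEquiv.symm_apply_apply]
    · simp only [inv_mul_cancel_left₀ ht, RingEquiv.symm_apply_apply]
    · simp only [inv_mul_cancel_left₀ h1, RingEquiv.symm_apply_apply]
    · simp only [inv_mul_cancel_left₀ h2, RingEquiv.symm_apply_apply]
    · simp only [inv_mul_cancel_left₀ h3, RingEquiv.symm_apply_apply]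
    · simp only [inv_mul_cancel_left₀ h4, RingEquiv.symm_apply_apply]
  right_inv g := by
    have h1 : s * t ≠ 0 := mul_ne_zero hs ht
    have h2 : s ^ 2 * t ≠ 0 := mul_ne_zero (pow_ne_zero _ hs) ht
    have h3 : s ^ 3 * t ≠ 0 := mul_ne_zero (pow_ne_zero _ hs) ht
    have h4 : s ^ 3 * t ^ 2 ≠ 0 := mul_ne_zero (pow_ne_zero _ hs) (pow_ne_zero _ ht)
    ext
    · simp only [RingEquiv.apply_symm_apply, mul_inv_cancel_left₀ hs]
    · simp only [RingEquiv.apply_symm_apply, mul_inv_cancel_left₀ ht]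
    · simp only [RingEquiv.apply_symm_apply, mul_inv_cancel_left₀ h1]
    · simp only [RingEquiv.apply_symm_apply, mul_inv_cancel_left₀ h2]
    · simp only [RingEquiv.apply_symm_apply, mul_inv_cancel_left₀ h3]
    · simp only [RingEquiv.apply_symm_apply, mul_inv_cancel_left₀ h4]
  map_mul' x y := by
    have h2 : τ 2 = 2 := map_ofNat τ 2
    have h3 : τ 3 = 3 := map_ofNat τ 3
    have h6 : τ 6 = 6 := map_ofNat τ 6
    ext
    · simp only [GU.mul_a, map_add]; ring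
    · simp only [GU.mul_b, map_add]; ring
    · simp only [GU.mul_c, map_add, map_mul]; ring
    · simp only [GU.mul_d, map_add, map_mul, map_pow, h2]; ring
    · simp only [GU.mul_e, map_add, map_mul, map_pow, h3]; ring
    · simp only [GU.mul_f, map_add, map_sub, map_mul, map_pow, h3, h6]; ring

theorem isTor_torE {s t : K} (τ : K ≃+* K) (hs : s ≠ 0) (ht : t ≠ 0) : IsTor (torE s t τ hs ht) s t τ :=
  ⟨hs, ht, fun _ => rfl, fun _ => rfl, fun _ => rfl, fun _ => rfl, fun _ => rfl, fun _ => rfl⟩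

theorem exists_isTor (s t : K) (τ : K ≃+* K) (hs : s ≠ 0) (ht : t ≠ 0) : ∃ α, IsTor α s t τ :=
  ⟨_, isTor_torE τ hs ht⟩

theorem torUniq {α β : MulAut (GU K)} {s t : K} {τ : K ≃+* K} (h : IsTor α s t τ) (k : IsTor β s t τ) : α = β := by
  ext g
  · rw [h.a, k.a]
  · rw [h.b, k.b]
  · rw [h.c, k.c]
  · rw [h.d, k.d]
  · rw [h.e, k.e]
  · rw [h.f, k.f]

theorem isTor_one : IsTor (1 : MulAut (GU K)) 1 1 (RingEquiv.refl K) := by
  refine ⟨one_ne_zero, one_ne_zero, fun g => ?_, fun g => ?_, fun g => ?_, fun g => ?_, fun g => ?_, fun g => ?_⟩ <;>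
  · rw [MulAut.one_apply, RingEquiv.refl_apply]; ring

theorem torMul {α β : MulAut (GU K)} {s t s' t' : K} {τ τ' : K ≃+* K} (h : IsTor α s t τ) (k : IsTor β s' t' τ') :
    IsTor (α * β) (s * τ s') (t * τ t') (τ'.trans τ) := by
  refine ⟨mul_ne_zero h.ne1 ((map_ne_zero τ).2 k.ne1), mul_ne_zero h.ne2 ((map_ne_zero τ).2 k.ne2), fun g => ?_,
    fun g => ?_, fun g => ?_, fun g => ?_, fun g => ?_, fun g => ?_⟩
  · rw [MulAut.mul_apply, h.a, k.a, RingEquiv.trans_apply]; simp only [map_mul]; ring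
  · rw [MulAut.mul_apply, h.b, k.b, RingEquiv.trans_apply]; simp only [map_mul]; ring
  · rw [MulAut.mul_apply, h.c, k.c, RingEquiv.trans_apply]; simp only [map_mul]; ring
  · rw [MulAut.mul_apply, h.d, k.d, RingEquiv.trans_apply]; simp only [map_mul, map_pow]; ring
  · rw [MulAut.mul_apply, h.e, k.e, RingEquiv.trans_apply]; simp only [map_mul, map_pow]; ring
  · rw [MulAut.mul_apply, h.f, k.f, RingEquiv.trans_apply]; simp only [map_mul, map_pow]; ring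

theorem torInv {α : MulAut (GU K)} {s t : K} {τ : K ≃+* K} (h : IsTor α s t τ) :
    IsTor α⁻¹ (τ.symm s⁻¹) (τ.symm t⁻¹) τ.symm := by
  have h1 : τ.symm s⁻¹ ≠ 0 := (map_ne_zero τ.symm).2 (inv_ne_zero h.ne1)
  have h2 : τ.symm t⁻¹ ≠ 0 := (map_ne_zero τ.symm).2 (inv_ne_zero h.ne2)
  have k := isTor_torE τ.symm h1 h2
  have h3 : α * torE _ _ τ.symm h1 h2 = 1 := by
    apply torUniq (s := 1) (t := 1) (τ := RingEquiv.refl K) _ isTor_one
    have := torMul h k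
    rw [τ.apply_symm_apply, τ.apply_symm_apply, mul_inv_cancel₀ h.ne1, mul_inv_cancel₀ h.ne2] at this
    have e : τ.symm.trans τ = RingEquiv.refl K := by ext x; simp
    rwa [e] at this
  rw [inv_eq_of_mul_eq_one_right h3]
  exact k

/-! ### the graph automorphism -/

/-- the graph endomorphism in characteristic `3` -/
def grHom (h3 : (3 : K) = 0) : GU K →* GU K where
  toFun g := ⟨g.b, g.a ^ 3, g.a ^ 3 * g.b - g.e, g.a ^ 3 * g.b ^ 2 - g.f, g.a ^ 3 * g.b ^ 3 - g.c ^ 3,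
    g.a ^ 6 * g.b ^ 3 - g.d ^ 3⟩
  map_one' := by ext <;> simp
  map_mul' x y := by
    ext
    · rfl
    · simp only [GU.mul_a, GU.mul_b]
      linear_combination (x.a*y.a^2 + x.a^2*y.a) * h3
    · simp only [GU.mul_a, GU.mul_b, GU.mul_c, GU.mul_e]
      linear_combination (x.a*x.b*y.a^2 + x.a*y.a^2*y.b + x.a^2*x.b*y.a + x.a^2*y.a*y.b - x.c*y.a^2 - x.d*y.a) * h3
    · simp only [GU.mul_a, GU.mul_b, GU.mul_c, GU.mul_d, GU.mul_f]
      linear_combination (2*x.a*x.b*y.a^2*y.b + x.a*x.b^2*y.a^2 + x.a*y.a^2*y.b^2 + 2*x.a^2*x.b*y.a*y.b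
        + x.a^2*x.b^2*y.a + x.a^2*y.a*y.b^2 - x.b*x.c*y.a^2 - x.b*y.a^2*y.c + x.b*y.a^3*y.b
        - 2*x.c*y.a*y.c + x.c*y.a^2*y.b - x.c^2*y.a + x.d*y.a*y.b - x.d*y.c + x.e*y.b) * h3
    · simp only [GU.mul_a, GU.mul_b, GU.mul_c, GU.mul_d, GU.mul_e]
      linear_combination (3*x.a*x.b*y.a^2*y.b^2 + 3*x.a*x.b^2*y.a^2*y.b + x.a*x.b^3*y.a^2 + x.a*y.a^2*y.b^3
        + 3*x.a^2*x.b*y.a*y.b^2 + 3*x.a^2*x.b^2*y.a*y.b + x.a^2*x.b^3*y.a + x.a^2*y.a*y.b^3
        - 2*x.b*x.c*y.a*y.c - x.b*x.c^2*y.a - x.b*y.a*y.c^2 + x.b*y.a^3*y.b^2 - x.b^2*x.c*y.a^2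
        - x.b^2*y.a^2*y.c + x.b^2*y.a^3*y.b - x.c*y.c^2 - x.c^2*y.c + x.e*y.b^2 + x.f*y.b) * h3
    · simp only [GU.mul_a, GU.mul_b, GU.mul_c, GU.mul_d, GU.mul_e, GU.mul_f]
      linear_combination (6*x.a*x.b*y.a^5*y.b^2 + 6*x.a*x.b^2*y.a^5*y.b + 2*x.a*x.b^3*y.a^5 + 2*x.a*y.a^5*y.b^3
        + 15*x.a^2*x.b*y.a^4*y.b^2 + 15*x.a^2*x.b^2*y.a^4*y.b + 5*x.a^2*x.b^3*y.a^4
        + 5*x.a^2*y.a^4*y.b^3 + 2*x.a^3*x.b*x.e*y.b + 19*x.a^3*x.b*y.a^3*y.b^2 + 2*x.a^3*x.b*y.b*y.e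
        + 20*x.a^3*x.b^2*y.a^3*y.b + x.a^3*x.b^2*y.e + 7*x.a^3*x.b^3*y.a^3 + x.a^3*x.e*y.b^2
        + 6*x.a^3*y.a^3*y.b^3 + x.a^3*y.b^2*y.e + 15*x.a^4*x.b*y.a^2*y.b^2
        + 15*x.a^4*x.b^2*y.a^2*y.b + 5*x.a^4*x.b^3*y.a^2 + 5*x.a^4*y.a^2*y.b^3
        + 6*x.a^5*x.b*y.a*y.b^2 + 6*x.a^5*x.b^2*y.a*y.b + 2*x.a^5*x.b^3*y.a + 2*x.a^5*y.a*y.b^3
        - 4*x.b*x.c*x.d*y.a^3 - 4*x.b*x.c*y.a^3*y.d - 4*x.b*x.c^2*y.a^4 - 2*x.b*x.d*y.a^2*y.d
        - x.b*x.d^2*y.a^2 - x.b*y.a^2*y.d^2 + x.b*y.a^6*y.b^2 - 2*x.b^2*x.c*y.a^5 - x.b^2*x.d*y.a^4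
        - x.b^2*y.a^4*y.d + x.b^2*y.a^6*y.b - 4*x.c*x.d*y.a*y.d - 2*x.c*x.d^2*y.a - 2*x.c*y.a*y.d^2
        - 4*x.c^2*x.d*y.a^2 - 4*x.c^2*y.a^2*y.d - 3*x.c^3*y.a^3 - x.d*y.d^2 - x.d^2*y.d
        + x.e*y.a^3*y.b^2 - 2*x.e*y.b*y.e - x.e^2*y.b - x.f*y.e) * h3

theorem grHom_injective (h3 : (3 : K) = 0) : Function.Injective (grHom (K := K) h3) := by
  rw [injective_iff_map_eq_one]
  intro g hg
  have h1 : g.b = 0 := congrArg GU.a hg
  have h2 : g.a ^ 3 = 0 := congrArg GU.b hg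
  have ha : g.a = 0 := by simpa using h2
  have h4 : g.a ^ 3 * g.b - g.e = 0 := congrArg GU.c hg
  have h5 : g.a ^ 3 * g.b ^ 2 - g.f = 0 := congrArg GU.d hg
  have h6 : g.a ^ 3 * g.b ^ 3 - g.c ^ 3 = 0 := congrArg GU.e hg
  have h7 : g.a ^ 6 * g.b ^ 3 - g.d ^ 3 = 0 := congrArg GU.f hg
  rw [h1] at h4 h5 h6 h7
  have he : g.e = 0 := by simpa using h4
  have hf : g.f = 0 := by simpa using h5
  have hc : g.c = 0 := by simpa using h6
  have hd : g.d = 0 := by simpa using h7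
  ext
  · exact ha
  · exact h1
  · exact hc
  · exact hd
  · exact he
  · exact hf

/-- the graph automorphism in characteristic `3` -/
noncomputable def grE [Finite K] (h3 : (3 : K) = 0) : MulAut (GU K) :=
  MulEquiv.ofBijective (grHom h3) ((Finite.injective_iff_bijective).1 (grHom_injective h3))

theorem isGr_grE [Finite K] (h3 : (3 : K) = 0) : IsGr (grE h3) :=
  ⟨h3, fun _ => rfl, fun _ => rfl, fun _ => rfl, fun _ => rfl, fun _ => rfl, fun _ => rfl⟩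

theorem grUniq {α β : MulAut (GU K)} (h : IsGr α) (k : IsGr β) : α = β := by
  ext g
  · rw [h.a, k.a]
  · rw [h.b, k.b]
  · rw [h.c, k.c]
  · rw [h.d, k.d]
  · rw [h.e, k.e]
  · rw [h.f, k.f]

theorem charP_three {K : Type u} [Field K] (h3 : (3 : K) = 0) : CharP K 3 := by
  exact (CharP.charP_iff_prime_eq_zero Nat.prime_three).2 (by exact_mod_cast h3)

/-- the cubing automorphism of `K` -/
theorem exists_cube [Finite K] (h3 : (3 : K) = 0) : ∃ τ : K ≃+* K, ∀ x, τ x = x ^ 3 := by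
  have : Fact (Nat.Prime 3) := ⟨Nat.prime_three⟩
  have := charP_three h3
  exact ⟨frobeniusEquiv K 3, fun x => rfl⟩

/-- the square of the graph automorphism is the cubing automorphism -/
theorem grSq {ρ : MulAut (GU K)} (h : IsGr ρ) {τ : K ≃+* K} (hτ : ∀ x, τ x = x ^ 3) : IsTor (ρ * ρ) 1 1 τ := by
  refine ⟨one_ne_zero, one_ne_zero, fun g => ?_, fun g => ?_, fun g => ?_, fun g => ?_, fun g => ?_, fun g => ?_⟩
  · rw [MulAut.mul_apply, h.a, h.b, hτ]; ring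
  · rw [MulAut.mul_apply, h.b, h.a, hτ]; ring
  · rw [MulAut.mul_apply, h.c, h.a, h.b, h.e, hτ]; ring
  · rw [MulAut.mul_apply, h.d, h.a, h.b, h.f, hτ]; ring
  · rw [MulAut.mul_apply, h.e, h.a, h.b, h.c, hτ]
    linear_combination (- g.a ^ 3 * g.b * g.e ^ 2 + g.a ^ 6 * g.b ^ 2 * g.e) * h.three
  · rw [MulAut.mul_apply, h.f, h.a, h.b, h.d, hτ]
    linear_combination (- g.a ^ 3 * g.b ^ 2 * g.f ^ 2 + g.a ^ 6 * g.b ^ 4 * g.f) * h.three

theorem grComm {ρ α β : MulAut (GU K)} (h : IsGr ρ) {s t : K} {τ : K ≃+* K} (k : IsTor α s t τ)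
    (k' : IsTor β t (s ^ 3) τ) : ρ * α = β * ρ := by
  ext g
  · rw [MulAut.mul_apply, MulAut.mul_apply, h.a, k.b, k'.a, h.a]
  · rw [MulAut.mul_apply, MulAut.mul_apply, h.b, k.a, k'.b, h.b, map_pow]; ring
  · rw [MulAut.mul_apply, MulAut.mul_apply, h.c, k.a, k.b, k.e, k'.c, h.c]
    simp only [map_sub, map_mul, map_pow]; ring
  · rw [MulAut.mul_apply, MulAut.mul_apply, h.d, k.a, k.b, k.f, k'.d, h.d]
    simp only [map_sub, map_mul, map_pow]; ring
  · rw [MulAut.mul_apply, MulAut.mul_apply, h.e, k.a, k.b, k.c, k'.e, h.e]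
    simp only [map_sub, map_mul, map_pow]; ring
  · rw [MulAut.mul_apply, MulAut.mul_apply, h.f, k.a, k.b, k.d, k'.f, h.f]
    simp only [map_sub, map_mul, map_pow]; ring

/-! ### the group `TT K` -/

theorem TT_cases [Finite K] {α : MulAut (GU K)} (hα : α ∈ TT K) :
    (∃ s t τ, IsTor α s t τ) ∨ ∃ s t τ, ∃ α' ρ, IsTor α' s t τ ∧ IsGr ρ ∧ α = α' * ρ := by
  have key : ∀ x y : MulAut (GU K), ((∃ s t τ, IsTor x s t τ) ∨ ∃ s t τ, ∃ α' ρ, IsTor α' s t τ ∧ IsGr ρ ∧ x = α' * ρ) →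
      ((∃ s t τ, IsTor y s t τ) ∨ ∃ s t τ, ∃ α' ρ, IsTor α' s t τ ∧ IsGr ρ ∧ y = α' * ρ) →
      ((∃ s t τ, IsTor (x * y) s t τ) ∨ ∃ s t τ, ∃ α' ρ, IsTor α' s t τ ∧ IsGr ρ ∧ x * y = α' * ρ) := by
    rintro x y (⟨s, t, τ, h⟩ | ⟨s, t, τ, x', ρ, h, hρ, rfl⟩) (⟨s', t', τ', k⟩ | ⟨s', t', τ', y', ρ', k, hρ', rfl⟩)
    · exact Or.inl ⟨_, _, _, torMul h k⟩
    · exact Or.inr ⟨_, _, _, _, _, torMul h k, hρ', by rw [mul_assoc]⟩
    · obtain ⟨y'', hy⟩ := exists_isTor t' (s' ^ 3) τ' k.ne2 (pow_ne_zero _ k.ne1)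
      refine Or.inr ⟨_, _, _, _, _, torMul h hy, hρ, ?_⟩
      rw [mul_assoc, grComm hρ k hy, mul_assoc]
    · obtain ⟨y'', hy⟩ := exists_isTor t' (s' ^ 3) τ' k.ne2 (pow_ne_zero _ k.ne1)
      obtain ⟨τ0, hτ0⟩ := exists_cube hρ.three
      obtain rfl : ρ = ρ' := grUniq hρ hρ'
      have e : x' * ρ * (y' * ρ) = (x' * y'') * (ρ * ρ) := by
        rw [mul_assoc, ← mul_assoc ρ, grComm hρ k hy]; group
      rw [e]
      exact Or.inl ⟨_, _, _, torMul (torMul h hy) (grSq hρ hτ0)⟩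
  induction hα using Subgroup.closure_induction with
  | mem x hx =>
    rcases hx with h | h
    · exact Or.inl h
    · exact Or.inr ⟨_, _, _, 1, x, isTor_one, h, (one_mul x).symm⟩
  | one => exact Or.inl ⟨_, _, _, isTor_one⟩
  | mul x y _ _ hx hy => exact key x y hx hy
  | inv x _ hx =>
    rcases hx with ⟨s, t, τ, h⟩ | ⟨s, t, τ, x', ρ, h, hρ, rfl⟩
    · exact Or.inl ⟨_, _, _, torInv h⟩
    · obtain ⟨τ0, hτ0⟩ := exists_cube hρ.three
      have h1 : ρ⁻¹ = (ρ * ρ)⁻¹ * ρ := by group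
      rw [mul_inv_rev, h1, mul_assoc]
      exact key _ _ (Or.inl ⟨_, _, _, torInv (grSq hρ hτ0)⟩) (key _ _ (Or.inr ⟨_, _, _, 1, ρ, isTor_one, hρ, (one_mul ρ).symm⟩)
        (Or.inl ⟨_, _, _, torInv h⟩))

/-! ### Weyl elements -/

/-- the element `w_b` on `Q_b` -/
def wbE : MulAut (Qb K) where
  toFun g := ⟨⟨-(g : GU K).c, 0, (g : GU K).a, (g : GU K).d - 2 * (g : GU K).a * (g : GU K).c,
    -(g : GU K).f + 3 * (g : GU K).a * (g : GU K).c ^ 2, (g : GU K).e - 3 * (g : GU K).a ^ 2 * (g : GU K).c⟩, rfl⟩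
  invFun g := ⟨⟨(g : GU K).c, 0, -(g : GU K).a, (g : GU K).d - 2 * (g : GU K).a * (g : GU K).c,
    (g : GU K).f - 3 * (g : GU K).c ^ 2 * (g : GU K).a, -(g : GU K).e + 3 * (g : GU K).c * (g : GU K).a ^ 2⟩, rfl⟩
  left_inv g := by
    have hb : (g : GU K).b = 0 := g.2
    apply Subtype.ext
    ext
    · simp
    · exact hb.symm
    · simp
    · simp only []; ring
    · simp only []; ring
    · simp only []; ring
  right_inv g := by
    have hb : (g : GU K).b = 0 := g.2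
    apply Subtype.ext
    ext
    · simp
    · exact hb.symm
    · simp
    · simp only []; ring
    · simp only []; ring
    · simp only []; ring
  map_mul' x y := by
    have hx : (x : GU K).b = 0 := x.2
    have hy : (y : GU K).b = 0 := y.2
    apply Subtype.ext
    ext
    · simp only [Subgroup.coe_mul, GU.mul_a, GU.mul_c, hx]; ring
    · simp only [Subgroup.coe_mul, GU.mul_b, add_zero]
    · simp only [Subgroup.coe_mul, GU.mul_a, GU.mul_c, zero_mul, add_zero]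
    · simp only [Subgroup.coe_mul, GU.mul_a, GU.mul_c, GU.mul_d, hx]; ring
    · simp only [Subgroup.coe_mul, GU.mul_a, GU.mul_c, GU.mul_d, GU.mul_e, GU.mul_f, hx, hy]; ring
    · simp only [Subgroup.coe_mul, GU.mul_a, GU.mul_c, GU.mul_d, GU.mul_e, GU.mul_f, hx, hy]; ring

theorem isWb_wbE : IsWb (wbE (K := K)) := ⟨fun _ => rfl, fun _ => rfl, fun _ => rfl, fun _ => rfl, fun _ => rfl⟩

/-- the element `w_a` on `Q_a` -/
def waE : MulAut (Qa K) where
  toFun g := ⟨⟨0, (g : GU K).e, -(g : GU K).d, (g : GU K).c, -(g : GU K).b,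
    (g : GU K).f + (g : GU K).b * (g : GU K).e - 3 * (g : GU K).c * (g : GU K).d⟩, rfl⟩
  invFun g := ⟨⟨0, -(g : GU K).e, (g : GU K).d, -(g : GU K).c, (g : GU K).b,
    (g : GU K).f + (g : GU K).b * (g : GU K).e - 3 * (g : GU K).c * (g : GU K).d⟩, rfl⟩
  left_inv g := by
    have ha : (g : GU K).a = 0 := g.2
    apply Subtype.ext
    ext
    · exact ha.symm
    · simp
    · simp
    · simp
    · simp
    · simp only []; ring
  right_inv g := by
    have ha : (g : GU K).a = 0 := g.2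
    apply Subtype.ext
    ext
    · exact ha.symm
    · simp
    · simp
    · simp
    · simp
    · simp only []; ring
  map_mul' x y := by
    have hx : (x : GU K).a = 0 := x.2
    have hy : (y : GU K).a = 0 := y.2
    apply Subtype.ext
    ext
    · simp only [Subgroup.coe_mul, GU.mul_a, add_zero]
    · simp only [Subgroup.coe_mul, GU.mul_b, GU.mul_e, hx, hy]; ring
    · simp only [Subgroup.coe_mul, GU.mul_c, GU.mul_d, hx, hy]; ring
    · simp only [Subgroup.coe_mul, GU.mul_c, GU.mul_d, hx, hy]; ring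
    · simp only [Subgroup.coe_mul, GU.mul_b, GU.mul_e, hx, hy]; ring
    · simp only [Subgroup.coe_mul, GU.mul_b, GU.mul_c, GU.mul_d, GU.mul_e, GU.mul_f, hx, hy]; ring

theorem isWa_waE : IsWa (waE (K := K)) := ⟨fun _ => rfl, fun _ => rfl, fun _ => rfl, fun _ => rfl, fun _ => rfl⟩

/-- **(GRP)** -/
theorem stGrp : StGrp.{u} := by
  intro K _ p n hK
  have hfin : Finite K := hK.fin
  have hp : Fact p.Prime := ⟨hK.pp⟩
  have hc : Nat.card (GU K) = (p ^ n) ^ 6 := by rw [GU.card_eq, hK.card]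
  have hP : IsPGroup p (⊤ : Subgroup (GU K)) := by
    refine IsPGroup.of_card (n := n * 6) ?_
    rw [Nat.card_congr Subgroup.topEquiv.toEquiv, hc, ← pow_mul]
  refine ⟨hc, hP, fun s t τ hs ht => exists_isTor s t τ hs ht, ?_, fun α hα => TT_cases hα, ⟨_, isWb_wbE⟩, ⟨_, isWa_waE⟩⟩
  rintro rfl
  have := hK.char
  exact ⟨_, isGr_grE (by exact_mod_cast CharP.cast_eq_zero K 3)⟩

end Cfsg.Agent.H650.GA
end

-- part: H650/GU/Root
section
/-!
# S5211: `GU K` in `chevG2.group K`, torus, field and graph automorphisms, Weyl elements (helper650)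
-/

set_option autoImplicit false

namespace Cfsg.Agent.H650.GR

open Cfsg Cfsg.Lie Cfsg.Agent.H779.G2 Cfsg.Agent.H650.GA
open Cfsg.Agent.ChevalleyStructure.Elts Cfsg.Agent.ChevalleyStructure.NConj
open Cfsg.Agent.ChevalleyStructure.WordCheck
open Cfsg.Agent.Hexagon.G2Pos Cfsg.Agent.Hexagon.G2Side Cfsg.Agent.Hexagon.Words

universe u

variable {K : Type u} [Field K]

/-! ### root elements of `GU K` -/

def e1 (t : K) : GU K := ⟨t, 0, 0, 0, 0, 0⟩
def e2 (t : K) : GU K := ⟨0, t, 0, 0, 0, 0⟩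
def e3 (t : K) : GU K := ⟨0, 0, t, 0, 0, 0⟩
def e4 (t : K) : GU K := ⟨0, 0, 0, t, 0, 0⟩
def e5 (t : K) : GU K := ⟨0, 0, 0, 0, t, 0⟩
def e6 (t : K) : GU K := ⟨0, 0, 0, 0, 0, t⟩

theorem eq_prod (g : GU K) : g = e1 g.a * (e5 g.e * e4 g.d * e3 g.c * e2 g.b *
    e6 (g.f - 3 * g.d * g.c + g.e * g.b)) := by
  ext
  · simp [e1, e2, e3, e4, e5, e6]
  · simp [e1, e2, e3, e4, e5, e6]
  · simp [e1, e2, e3, e4, e5, e6]
  · simp [e1, e2, e3, e4, e5, e6]
  · simp [e1, e2, e3, e4, e5, e6]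
  · simp only [e1, e2, e3, e4, e5, e6, GU.mul_a, GU.mul_b, GU.mul_c, GU.mul_d, GU.mul_e, GU.mul_f]; ring

theorem hom_ext {M : Type*} [Monoid M] {f g : GU K →* M} (h1 : ∀ t, f (e1 t) = g (e1 t)) (h2 : ∀ t, f (e2 t) = g (e2 t))
    (h3 : ∀ t, f (e3 t) = g (e3 t)) (h4 : ∀ t, f (e4 t) = g (e4 t)) (h5 : ∀ t, f (e5 t) = g (e5 t))
    (h6 : ∀ t, f (e6 t) = g (e6 t)) : f = g := by
  ext x
  rw [eq_prod x]
  simp only [map_mul, h1, h2, h3, h4, h5, h6]

/-! ### the embedding -/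

variable (K) in
/-- the embedding of `GU K` in the Chevalley group -/
noncomputable def ι : GU K →* ↥(chevG2.group K) := (G.toChev K).comp (G.isoH (F := K)).symm.toMonoidHom

theorem ι_injective [Finite K] : Function.Injective (ι K) :=
  G.toChev_injective.comp (G.isoH (F := K)).symm.injective

theorem range_ι : (ι K).range = (G.toChev K).range := by
  unfold ι
  have h : ((G.isoH (F := K)).symm.toMonoidHom).range = ⊤ :=
    MonoidHom.range_eq_top.2 (show Function.Surjective ((G.isoH (F := K)).symm.toMonoidHom) from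
      (G.isoH (F := K)).symm.surjective)
  rw [MonoidHom.range_comp, h, ← MonoidHom.range_eq_map]

theorem xG_eq' (r : ℕ) (t : K) : (Cfsg.Agent.ChevalleyStructure.G2N.xG r t : GL chevG2.Idx K) = xG hG2 r t :=
  Cfsg.Agent.Hexagon.G2End.xG_eq r t

theorem ι_aux (t : K) : ι K (e1 t) = xs 7 t ∧ ι K (e2 t) = xs 6 t ∧ ι K (e3 t) = xs 8 t ∧ ι K (e4 t) = xs 9 t ∧
    ι K (e5 t) = xs 10 (-t) ∧ ι K (e6 t) = xs 11 (-t) := by
  have P := Cfsg.Agent.Hexagon.G2End.hexPar (F := K)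
  have f1 : ∀ t : K, (G.isoH (F := K)).symm (e1 t) = G.GU.x1 t := fun t => by
    ext <;> simp [G.isoH_symm_apply, e1, G.GU.x1]
  have f2 : ∀ t : K, (G.isoH (F := K)).symm (e2 t) = G.GU.x6 t := fun t => by
    ext <;> simp [G.isoH_symm_apply, e2, G.GU.x6]
  have f3 : ∀ t : K, (G.isoH (F := K)).symm (e3 t) = G.GU.x5 t := fun t => by
    ext <;> simp [G.isoH_symm_apply, e3, G.GU.x5]
  have f4 : ∀ t : K, (G.isoH (F := K)).symm (e4 t) = G.GU.x3 (-t) := fun t => by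
    ext <;> simp [G.isoH_symm_apply, e4, G.GU.x3]
  have f5 : ∀ t : K, (G.isoH (F := K)).symm (e5 t) = G.GU.x2 t := fun t => by
    ext <;> simp [G.isoH_symm_apply, e5, G.GU.x2]
  have f6 : ∀ t : K, (G.isoH (F := K)).symm (e6 t) = G.GU.x4 (-t) := fun t => by
    ext <;> simp [G.isoH_symm_apply, e6, G.GU.x4]
  refine ⟨?_, ?_, ?_, ?_, ?_, ?_⟩
  · show G.toChev K ((G.isoH (F := K)).symm (e1 t)) = _
    rw [f1]
    refine (G.relHom_x P.rel t).1.trans (Subtype.ext ?_)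
    show (Cfsg.Agent.ChevalleyStructure.G2N.xG 7 t : GL chevG2.Idx K) = _
    rw [xG_eq', coe_xs]
  · show G.toChev K ((G.isoH (F := K)).symm (e2 t)) = _
    rw [f2]
    refine (G.relHom_x P.rel t).2.2.2.2.2.trans (Subtype.ext ?_)
    show (Cfsg.Agent.ChevalleyStructure.G2N.xG 6 t : GL chevG2.Idx K) = _
    rw [xG_eq', coe_xs]
  · show G.toChev K ((G.isoH (F := K)).symm (e3 t)) = _
    rw [f3]
    refine (G.relHom_x P.rel t).2.2.2.2.1.trans (Subtype.ext ?_)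
    show (Cfsg.Agent.ChevalleyStructure.G2N.xG 8 t : GL chevG2.Idx K) = _
    rw [xG_eq', coe_xs]
  · show G.toChev K ((G.isoH (F := K)).symm (e4 t)) = _
    rw [f4]
    refine (G.relHom_x P.rel (-t)).2.2.1.trans (Subtype.ext ?_)
    show (Cfsg.Agent.ChevalleyStructure.G2N.xG 9 (- -t) : GL chevG2.Idx K) = _
    rw [neg_neg, xG_eq', coe_xs]
  · show G.toChev K ((G.isoH (F := K)).symm (e5 t)) = _
    rw [f5]
    refine (G.relHom_x P.rel t).2.1.trans (Subtype.ext ?_)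
    show (Cfsg.Agent.ChevalleyStructure.G2N.xG 10 (-t) : GL chevG2.Idx K) = _
    rw [xG_eq', coe_xs]
  · show G.toChev K ((G.isoH (F := K)).symm (e6 t)) = _
    rw [f6]
    refine (G.relHom_x P.rel (-t)).2.2.2.1.trans (Subtype.ext ?_)
    show (Cfsg.Agent.ChevalleyStructure.G2N.xG 11 (-t) : GL chevG2.Idx K) = _
    rw [xG_eq', coe_xs]

theorem ι1 (t : K) : ι K (e1 t) = xs 7 t := (ι_aux t).1
theorem ι2 (t : K) : ι K (e2 t) = xs 6 t := (ι_aux t).2.1
theorem ι3 (t : K) : ι K (e3 t) = xs 8 t := (ι_aux t).2.2.1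
theorem ι4 (t : K) : ι K (e4 t) = xs 9 t := (ι_aux t).2.2.2.1
theorem ι5 (t : K) : ι K (e5 t) = xs 10 (-t) := (ι_aux t).2.2.2.2.1
theorem ι6 (t : K) : ι K (e6 t) = xs 11 (-t) := (ι_aux t).2.2.2.2.2

/-! ### automorphisms are determined by the root elements -/

theorem aut_ext {φ ψ : MulAut ↥(chevG2.group K)} (h : ∀ r < 12, ∀ t : K, φ (xs r t) = ψ (xs r t)) : φ = ψ := by
  have h1 : chevG2.group K ≤ (MonoidHom.eqLocus φ.toMonoidHom ψ.toMonoidHom).map (chevG2.group K).subtype := by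
    rw [group_le_iff hG2]
    intro r hr t
    exact ⟨xs r t, h r hr t, rfl⟩
  ext1 x
  obtain ⟨y, hy, e⟩ := h1 x.2
  have h2 : y = x := Subtype.ext e
  rw [← h2]
  exact hy

/-! ### torus and field automorphisms -/

/-- the coefficients of the roots on `α` -/
def cm (r : ℕ) : ℤ := [-3, -3, -2, -1, -1, 0, 0, 1, 1, 2, 3, 3].getD r 0

/-- the coefficients of the roots on `β` -/
def cn (r : ℕ) : ℤ := [-2, -1, -1, -1, 0, -1, 1, 0, 1, 1, 1, 2].getD r 0

/-- the automorphism of the Chevalley group belonging to `IsTor s t τ` -/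
def IsTG (β : MulAut ↥(chevG2.group K)) (s t : K) (τ : K ≃+* K) : Prop :=
  ∀ r < 12, ∀ u : K, β (xs r u) = xs r (s ^ cm r * t ^ cn r * τ u)

theorem IsTG.uniq {β β' : MulAut ↥(chevG2.group K)} {s t : K} {τ : K ≃+* K} (h : IsTG β s t τ) (h' : IsTG β' s t τ) :
    β = β' := aut_ext fun r hr u => by rw [h r hr, h' r hr]

theorem isTG_one : IsTG (1 : MulAut ↥(chevG2.group K)) 1 1 (RingEquiv.refl K) := fun r _ u => by
  rw [MulAut.one_apply, one_zpow, one_zpow, one_mul, one_mul, RingEquiv.refl_apply]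

theorem IsTG.mul {β β' : MulAut ↥(chevG2.group K)} {s t s' t' : K} {τ τ' : K ≃+* K} (h : IsTG β s t τ)
    (h' : IsTG β' s' t' τ') : IsTG (β * β') (s * τ s') (t * τ t') (τ'.trans τ) := fun r hr u => by
  rw [MulAut.mul_apply, h' r hr, h r hr, RingEquiv.trans_apply]
  congr 1
  rw [map_mul, map_mul, map_zpow₀, map_zpow₀, mul_zpow, mul_zpow]
  ring

theorem weights : ∀ r < 12, 2 * chevG2.cartan 0 r + 3 * chevG2.cartan 1 r = cm r ∧
    chevG2.cartan 0 r + 2 * chevG2.cartan 1 r = cn r := by decide +kernel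

/-- conjugation by the element `h_α(c) h_β(d)` -/
theorem h_conj {h : ↥(chevG2.group K)} {c d : K} (hc : c ≠ 0) (hd : d ≠ 0)
    (hh : ((h : GL chevG2.Idx K) : Matrix chevG2.Idx chevG2.Idx K) =
      chevG2.hMat K (chevG2.simple 0) c * chevG2.hMat K (chevG2.simple 1) d) {r : ℕ} (hr : r < 12) (u : K) :
    h * xs r u * h⁻¹ = xs r (c ^ chevG2.cartan 0 r * d ^ chevG2.cartan 1 r * u) := by
  rw [mul_inv_eq_iff_eq_mul]
  apply Subtype.ext
  apply Units.ext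
  rw [Subgroup.coe_mul, Subgroup.coe_mul, Units.val_mul, Units.val_mul, coe_xs, coe_xs, coe_xG, coe_xG, hh, mul_assoc,
    Cfsg.Agent.S1032.result (F := K) chevG2 hG2 1 r (by decide) hr d hd u, ← mul_assoc,
    Cfsg.Agent.S1032.result (F := K) chevG2 hG2 0 r (by decide) hr c hc, mul_assoc, mul_assoc (c ^ _)]

/-- the element `h_α(c) h_β(d)` -/
def hh (c d : K) : ↥(chevG2.group K) :=
  ⟨hG hG2 (chevG2.simple 0) c, hG_mem_group hG2 _ _⟩ * ⟨hG hG2 (chevG2.simple 1) d, hG_mem_group hG2 _ _⟩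

theorem coe_hh (c d : K) : ((hh c d : GL chevG2.Idx K) : Matrix chevG2.Idx chevG2.Idx K) =
      chevG2.hMat K (chevG2.simple 0) c * chevG2.hMat K (chevG2.simple 1) d := by
  unfold hh
  rw [Subgroup.coe_mul, Units.val_mul, coe_hG, coe_hG]

theorem isTG_conj {s t : K} (hs : s ≠ 0) (ht : t ≠ 0) {h : ↥(chevG2.group K)}
    (hh : ((h : GL chevG2.Idx K) : Matrix chevG2.Idx chevG2.Idx K) =
      chevG2.hMat K (chevG2.simple 0) (s ^ 2 * t) * chevG2.hMat K (chevG2.simple 1) (s ^ 3 * t ^ 2)) :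
    IsTG (MulAut.conj h) s t (RingEquiv.refl K) := by
  intro r hr u
  rw [MulAut.conj_apply, h_conj (mul_ne_zero (pow_ne_zero _ hs) ht)
    (mul_ne_zero (pow_ne_zero _ hs) (pow_ne_zero _ ht)) hh hr, RingEquiv.refl_apply]
  obtain ⟨w1, w2⟩ := weights r hr
  congr 2
  rw [← w1, ← w2, mul_zpow, mul_zpow, zpow_add₀ hs, zpow_add₀ ht, zpow_mul, zpow_mul, zpow_mul, zpow_ofNat, zpow_ofNat,
    zpow_ofNat]
  ring

theorem exists_isTG {s t : K} (hs : s ≠ 0) (ht : t ≠ 0) (τ : K ≃+* K) : ∃ β : MulAut ↥(chevG2.group K), IsTG β s t τ := by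
  obtain ⟨α, hα⟩ := Cfsg.Agent.S1080.result (F := K) chevG2 hG2 τ
  have h1 : IsTG α 1 1 τ := fun r hr u => by
    rw [one_zpow, one_zpow, one_mul, one_mul]
    apply Subtype.ext
    apply Units.ext
    rw [coe_xs, coe_xG]
    exact hα (xs r u) r u hr (by rw [coe_xs, coe_xG])
  have h2 := isTG_conj hs ht (coe_hh (s ^ 2 * t) (s ^ 3 * t ^ 2))
  have h3 := h2.mul h1
  simp only [RingEquiv.refl_apply, mul_one] at h3
  have e : τ.trans (RingEquiv.refl K) = τ := by ext x; rfl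
  rw [e] at h3
  exact ⟨_, h3⟩

theorem IsTG.inv {β : MulAut ↥(chevG2.group K)} {s t : K} {τ : K ≃+* K} (hs : s ≠ 0) (ht : t ≠ 0) (h : IsTG β s t τ) :
    IsTG β⁻¹ (τ.symm s⁻¹) (τ.symm t⁻¹) τ.symm := by
  have h1 : τ.symm s⁻¹ ≠ 0 := (map_ne_zero τ.symm).2 (inv_ne_zero hs)
  have h2 : τ.symm t⁻¹ ≠ 0 := (map_ne_zero τ.symm).2 (inv_ne_zero ht)
  obtain ⟨β', k⟩ := exists_isTG h1 h2 τ.symm
  have h3 : β * β' = 1 := by
    apply IsTG.uniq (s := 1) (t := 1) (τ := RingEquiv.refl K) _ isTG_one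
    have := h.mul k
    rw [τ.apply_symm_apply, τ.apply_symm_apply, mul_inv_cancel₀ hs, mul_inv_cancel₀ ht] at this
    have e : τ.symm.trans τ = RingEquiv.refl K := by ext x; simp
    rwa [e] at this
  rw [inv_eq_of_mul_eq_one_right h3]
  exact k

/-! ### the graph automorphism -/

/-- the permutation of the roots -/
def gp (r : ℕ) : ℕ := [2, 3, 0, 1, 5, 4, 7, 6, 10, 11, 8, 9].getD r 0

/-- the exponents -/
def ge (r : ℕ) : ℕ := [1, 1, 3, 3, 3, 1, 1, 3, 3, 3, 1, 1].getD r 0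

/-- the graph automorphism of the Chevalley group -/
def IsGG (β : MulAut ↥(chevG2.group K)) : Prop := ∀ r < 12, ∀ u : K, β (xs r u) = xs (gp r) (u ^ ge r)

theorem exists_isGG [Finite K] (h3 : (3 : K) = 0) : ∃ β : MulAut ↥(chevG2.group K), IsGG β := by
  have := charP_three h3
  have : Fact (Nat.Prime 3) := ⟨Nat.prime_three⟩
  have hperf : ∀ x : K, ∃ y : K, y ^ 3 = x := fun x => by
    obtain ⟨y, hy⟩ := (frobeniusEquiv K 3).surjective x
    exact ⟨y, hy⟩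
  obtain ⟨α, hα⟩ := Cfsg.Agent.ChevalleyStructure.GraphG2.exists_graph (K := K) hperf
  refine ⟨α, fun r hr u => ?_⟩
  apply Subtype.ext
  apply Units.ext
  rw [coe_xs, coe_xG]
  exact hα (xs r u) r u hr (by rw [coe_xs, coe_xG])

theorem IsGG.uniq {β β' : MulAut ↥(chevG2.group K)} (h : IsGG β) (h' : IsGG β') : β = β' :=
  aut_ext fun r hr u => by rw [h r hr, h' r hr]

theorem gp_facts : ∀ r < 12, gp r < 12 ∧ gp (gp r) = r ∧ ge r * ge (gp r) = 3 ∧
    3 * cn (gp r) = ge r * cm r ∧ cm (gp r) = ge r * cn r := by decide +kernel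

theorem IsGG.sq {β : MulAut ↥(chevG2.group K)} (h : IsGG β) {τ : K ≃+* K} (hτ : ∀ x, τ x = x ^ 3) :
    IsTG (β * β) 1 1 τ := fun r hr u => by
  obtain ⟨g1, g2, g3, -, -⟩ := gp_facts r hr
  rw [MulAut.mul_apply, h r hr, h _ g1, g2, ← pow_mul, g3, one_zpow, one_zpow, one_mul, one_mul, hτ]

theorem IsGG.comm {ρ α β : MulAut ↥(chevG2.group K)} (h : IsGG ρ) {s t : K} {τ : K ≃+* K}
    (k : IsTG α s t τ) (k' : IsTG β t (s ^ 3) τ) : ρ * α = β * ρ := by
  apply aut_ext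
  intro r hr u
  obtain ⟨g1, g2, g3, g4, g5⟩ := gp_facts r hr
  rw [MulAut.mul_apply, MulAut.mul_apply, k r hr, h r hr, h r hr, k' _ g1]
  congr 1
  rw [mul_pow, mul_pow, map_pow]
  congr 1
  have e1 : (s ^ cm r) ^ ge r = (s ^ 3) ^ cn (gp r) := by
    rw [← zpow_natCast, ← zpow_mul, ← zpow_natCast, ← zpow_mul, mul_comm (cm r), ← g4]
    rfl
  have e2 : (t ^ cn r) ^ ge r = t ^ cm (gp r) := by
    rw [← zpow_natCast, ← zpow_mul, mul_comm (cn r), ← g5]
  rw [e1, e2, mul_comm]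

/-! ### compatibility with the embedding -/

theorem cov_of {α : MulAut (GU K)} {β : MulAut ↥(chevG2.group K)} (h1 : ∀ t, β (xs 7 t) = ι K (α (e1 t)))
    (h2 : ∀ t, β (xs 6 t) = ι K (α (e2 t))) (h3 : ∀ t, β (xs 8 t) = ι K (α (e3 t)))
    (h4 : ∀ t, β (xs 9 t) = ι K (α (e4 t))) (h5 : ∀ t, β (xs 10 (-t)) = ι K (α (e5 t)))
    (h6 : ∀ t, β (xs 11 (-t)) = ι K (α (e6 t))) (x : GU K) : β (ι K x) = ι K (α x) := by
  have : β.toMonoidHom.comp (ι K) = (ι K).comp α.toMonoidHom := by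
    apply hom_ext <;> intro t
    · show β (ι K (e1 t)) = _
      rw [ι1, h1]; rfl
    · show β (ι K (e2 t)) = _
      rw [ι2, h2]; rfl
    · show β (ι K (e3 t)) = _
      rw [ι3, h3]; rfl
    · show β (ι K (e4 t)) = _
      rw [ι4, h4]; rfl
    · show β (ι K (e5 t)) = _
      rw [ι5, h5]; rfl
    · show β (ι K (e6 t)) = _
      rw [ι6, h6]; rfl
  exact DFunLike.congr_fun this x

theorem tor_e {α : MulAut (GU K)} {s t : K} {τ : K ≃+* K} (h : IsTor α s t τ) (u : K) :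
    α (e1 u) = e1 (s * τ u) ∧ α (e2 u) = e2 (t * τ u) ∧ α (e3 u) = e3 (s * t * τ u) ∧
    α (e4 u) = e4 (s ^ 2 * t * τ u) ∧ α (e5 u) = e5 (s ^ 3 * t * τ u) ∧ α (e6 u) = e6 (s ^ 3 * t ^ 2 * τ u) := by
  refine ⟨?_, ?_, ?_, ?_, ?_, ?_⟩ <;>
  · ext <;> simp [h.a, h.b, h.c, h.d, h.e, h.f, e1, e2, e3, e4, e5, e6]

theorem cov_tor {α : MulAut (GU K)} {β : MulAut ↥(chevG2.group K)} {s t : K} {τ : K ≃+* K} (h : IsTor α s t τ)
    (k : IsTG β s t τ) (x : GU K) : β (ι K x) = ι K (α x) := by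
  have c6 : cm 6 = 0 ∧ cn 6 = 1 := by decide
  have c7 : cm 7 = 1 ∧ cn 7 = 0 := by decide
  have c8 : cm 8 = 1 ∧ cn 8 = 1 := by decide
  have c9 : cm 9 = 2 ∧ cn 9 = 1 := by decide
  have c10 : cm 10 = 3 ∧ cn 10 = 1 := by decide
  have c11 : cm 11 = 3 ∧ cn 11 = 2 := by decide
  apply cov_of <;> intro u
  · rw [(tor_e h u).1, ι1, k 7 (by norm_num), c7.1, c7.2, zpow_one, zpow_zero, mul_one]
  · rw [(tor_e h u).2.1, ι2, k 6 (by norm_num), c6.1, c6.2, zpow_one, zpow_zero, one_mul]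
  · rw [(tor_e h u).2.2.1, ι3, k 8 (by norm_num), c8.1, c8.2, zpow_one, zpow_one]
  · rw [(tor_e h u).2.2.2.1, ι4, k 9 (by norm_num), c9.1, c9.2, zpow_one, zpow_ofNat]
  · rw [(tor_e h u).2.2.2.2.1, ι5, k 10 (by norm_num), c10.1, c10.2, zpow_one, zpow_ofNat, map_neg, mul_neg]
  · rw [(tor_e h u).2.2.2.2.2, ι6, k 11 (by norm_num), c11.1, c11.2, zpow_ofNat, zpow_ofNat, map_neg, mul_neg]

theorem gr_e {ρ : MulAut (GU K)} (h : IsGr ρ) (u : K) :
    ρ (e1 u) = e2 (u ^ 3) ∧ ρ (e2 u) = e1 u ∧ ρ (e3 u) = e5 (- u ^ 3) ∧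
    ρ (e4 u) = e6 (- u ^ 3) ∧ ρ (e5 u) = e3 (-u) ∧ ρ (e6 u) = e4 (-u) := by
  refine ⟨?_, ?_, ?_, ?_, ?_, ?_⟩ <;>
  · ext <;> simp [h.a, h.b, h.c, h.d, h.e, h.f, e1, e2, e3, e4, e5, e6]

theorem cov_gr {ρ : MulAut (GU K)} {β : MulAut ↥(chevG2.group K)} (h : IsGr ρ) (k : IsGG β) (x : GU K) :
    β (ι K x) = ι K (ρ x) := by
  have c6 : gp 6 = 7 ∧ ge 6 = 1 := by decide
  have c7 : gp 7 = 6 ∧ ge 7 = 3 := by decide
  have c8 : gp 8 = 10 ∧ ge 8 = 3 := by decide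
  have c9 : gp 9 = 11 ∧ ge 9 = 3 := by decide
  have c10 : gp 10 = 8 ∧ ge 10 = 1 := by decide
  have c11 : gp 11 = 9 ∧ ge 11 = 1 := by decide
  apply cov_of <;> intro u
  · rw [(gr_e h u).1, ι2, k 7 (by norm_num), c7.1, c7.2]
  · rw [(gr_e h u).2.1, ι1, k 6 (by norm_num), c6.1, c6.2, pow_one]
  · rw [(gr_e h u).2.2.1, ι5, k 8 (by norm_num), c8.1, c8.2, neg_neg]
  · rw [(gr_e h u).2.2.2.1, ι6, k 9 (by norm_num), c9.1, c9.2, neg_neg]
  · rw [(gr_e h u).2.2.2.2.1, ι3, k 10 (by norm_num), c10.1, c10.2, pow_one]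
  · rw [(gr_e h u).2.2.2.2.2, ι4, k 11 (by norm_num), c11.1, c11.2, pow_one]

end Cfsg.Agent.H650.GR
end

private theorem dce_ff0398334575 : _root_.True := by
  try have : _root_.True := by simp only [_root_.Cfsg.Agent.H650.GR.e5.eq_1]
  try have : _root_.True := by simp only [_root_.Cfsg.Agent.H650.GR.e4.eq_1]
  try have : _root_.True := by simp only [_root_.Cfsg.Agent.H650.GR.e3.eq_1]
  try have : _root_.True := by simp only [_root_.Cfsg.Agent.H650.GR.e6.eq_1]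
  try have : _root_.True := by simp only [_root_.Cfsg.Agent.H650.G.relHom.congr_simp]
  try have : _root_.True := by simp only [_root_.Cfsg.Agent.H650.GR.e1.eq_1]
  try have : _root_.True := by simp only [_root_.Cfsg.Agent.H650.GR.e2.eq_1]
  exact _root_.True.intro
end
end
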